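import Cfsg.Agent.H18.X9Code
import Mathlib.Logic.Equiv.Basic
import Mathlib.Data.Fin.VecNotation

/-!
# Project X9, the model with 75 points: finite checks
-/

set_option autoImplicit false
set_option synthInstance.maxSize 100000
set_option synthInstance.maxHeartbeats 400000

namespace Cfsg.Agent.H6.X9T

open Cfsg.Agent.H18.X9

/-- the inverses of the transversal -/
def TI : List ℕ :=
  [9241421688590303745, 10689346560975962639, 12700186202411895369, 9250428888113481345,
    11483950540489231631, 12995189570190707295, 10693850160871769755, 17077966635451827017,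
    12703023561843149385, 12709193401935077113, 430410613144192897, 531486775768843905,
    9466337907429606744, 11488454140586363280, 18378961638714004831, 12993488163171469919,
    12999693170086518507, 858833188603338139, 677836137114306203, 17096285140077003593,
    15358695487470584598, 17086973835176335268, 336526013176744470, 12717660263316463353,
    6737701959997122553, 6296094298809900793, 286322504845592449, 3300307485453485850,
    718640989298270048, 16866069012520699418, 17514270510260182360, 9470841507526749659,
    854329589177293200, 18400059648973755743, 15509003193753556246, 18392472438334308768,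
    13003621264950304491, 5448001140175468011, 4713061403244568299, 1002940211956522395,
    3733216068353957146, 570602812455028072, 4090101621975171935, 17110921839922927524,
    9233791013468914454, 15377005435933704982, 15359821387847194563, 6746709159453193124,
    503440403783228438, 6304710998715342585, 4864231354275850233, 4720089326936457056,
    15136686755617250834, 6293842500472665006, 994464476242157519, 16661924698361716005,
    17527781309880497579, 3729838368834754857, 566099213028998511, 18410192749158744480,
    10681135403844654358, 15523372363693708566, 15507877294584906177, 5452504740272595360,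
    6312692268632960360, 4701802405786804650, 274451554536818125, 4050976601269360487,
    2195140018864936868, 3775732795841535342, 202112296742589635, 4729096526392514337,
    16033158430143872864, 4719218794510745440, 11473768938262584613]

/-- the stabiliser of the vector `2` -/
def Kt : List ℕ :=
  [270497229792805505, 270559909320655490, 270911760725639809, 271269096501609090,
    273723150582219337, 274069493658092106, 274214635618501193, 274706124748554826,
    918770391471948508, 919066154584900118, 919567484318974684, 919635649766490646,
    922165691599487696, 922664865537720858, 922929799835878096, 923214570248208922,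
    990919200507101791, 991275437950698134, 991395335632257631, 991681216092504726,
    994431027145147035, 994699315342803538, 994856595707724443, 995212833208992338,
    1478587844486693506, 1478914448798712450, 1481945744776954518, 1482309732215882390,
    1498981272578818586, 1499546473531310618, 1502426031804645902, 1502993431377740302,
    1747644977742414410, 1748017610010985034, 1754420176882172498, 1754755426225160786,
    1783839248194470422, 1784393298673664534, 1790663924149518862, 1791233368127046158,
    5192848849462821402, 5193270272090112538, 5213187624160002642, 5213606848703562322,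
    5225562438577553921, 5226118482206786049, 5245603229735584329, 5246174665588081225,
    5441732467617366529, 5442285217006682625, 5444905293060702875, 5445617001806889627,
    5462072022203433546, 5462625399647830602, 5465669887190172368, 5466086293664760528,
    5769305255260783130, 5769724375785603610, 5782879834524811850, 5783314348682183242,
    5805420578765144591, 5805972327393526287, 5818703771123319391, 5819275310357021279,
    6738546745377882753, 6739282582814130817, 6742160062783226383, 6742719349079212559,
    6759116725939536466, 6759678210000486994, 6762568884129039068, 6763254145288700636,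
    9228146950040257046, 9228640080703324694, 9241421688590303745, 9241989586362827265,
    9264028406075556502, 9264523733614396054, 9277662700312593025, 9278232799255855745,
    9457603576034820609, 9458172586203873793, 9464513359371108959, 9465147230861197919,
    9494131009311408770, 9494690113155170946, 9500751607818814172, 9501241456556442332,
    10669285688200331798, 10669798661612306966, 10689346560975962639, 10689914407175324175,
    10701811434378297986, 10702291420562391682, 10722212072000979611, 10722777720921916059,
    11043020639007343177, 11043643610172424777, 11049643533417513487, 11050201642926014991,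
    11079407322727514774, 11079980827932164758, 11085927974629081808, 11086583928609637072,
    15136730564000416270, 15137288368549462542, 15150377153559659081, 15150932758162702921,
    15172684388004266651, 15173234910922801819, 15186346372300866268, 15186899090098684636,
    16001412999441351182, 16001981644487852558, 16021803942088147551, 16022399077268193887,
    16033980224552829569, 16034565982946853505, 16054408551497925328, 16054963623676019408]

/-- point, transversal element, inverse -/
def TR : List (ℕ × ℕ × ℕ) := m6.P.zip (m6.T.zip TI)

/-- membership in the group of index two -/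
def inX (g : ℕ) : Prop := ∃ x ∈ TR, x.1 = ap g 1 ∧ mul x.2.2 g ∈ m6.K

/-- evaluate first -/
def force (n : ℕ) (f : ℕ → Bool) : Bool := Nat.rec (f 0) (fun k _ => f (Nat.succ k)) n

theorem force_eq (n : ℕ) (f : ℕ → Bool) : force n f = f n := by cases n <;> rfl

/-- membership -/
def el (x : ℕ) (L : List ℕ) : Bool := List.rec false (fun a _ r => Bool.rec r true (Nat.beq a x)) L

theorem el_mem {x : ℕ} {L : List ℕ} (h : el x L = true) : x ∈ L := by
  induction L with
  | nil => exact absurd h (by simp [el])
  | cons a L ih =>
    change Bool.rec (el x L) true (Nat.beq a x) = true at h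
    cases k : Nat.beq a x
    · rw [k] at h; exact List.mem_cons_of_mem _ (ih h)
    · rw [Nat.eq_of_beq_eq_true k]; exact List.mem_cons_self

/-- for all -/
def al (L : List ℕ) (f : ℕ → Bool) : Bool := List.rec true (fun a _ r => Bool.rec false r (f a)) L

theorem al_mem {L : List ℕ} {f : ℕ → Bool} (h : al L f = true) : ∀ x ∈ L, f x = true := by
  induction L with
  | nil => simp
  | cons a L ih =>
    change Bool.rec false (al L f) (f a) = true at h
    cases k : f a
    · rw [k] at h; exact absurd h (by simp)
    · rw [k] at h
      intro x hx
      rcases List.mem_cons.1 hx with rfl | hx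
      · exact k
      · exact ih h x hx

/-- search of the point -/
def fnd (p g : ℕ) (L : List (ℕ × ℕ × ℕ)) : Bool :=
  List.rec false (fun x _ r => Bool.rec r (force (mul x.2.2 g) fun y => el y m6.K)
    (Nat.beq x.1 p)) L

theorem fnd_mem {p g : ℕ} {L : List (ℕ × ℕ × ℕ)} (h : fnd p g L = true) :
    ∃ x ∈ L, x.1 = p ∧ mul x.2.2 g ∈ m6.K := by
  induction L with
  | nil => exact absurd h (by simp [fnd])
  | cons a L ih =>
    change Bool.rec (fnd p g L) (force (mul a.2.2 g) fun y => el y m6.K) (Nat.beq a.1 p) = true at h
    cases k : Nat.beq a.1 p
    · rw [k] at h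
      obtain ⟨x, hx, e⟩ := ih h
      exact ⟨x, List.mem_cons_of_mem _ hx, e⟩
    · rw [k] at h
      exact ⟨a, List.mem_cons_self, Nat.eq_of_beq_eq_true k, el_mem ((force_eq _ _).symm.trans h)⟩

/-- the test for `inX` -/
def inXb (g : ℕ) : Bool := force g fun g => force (ap g 1) fun p => fnd p g TR

theorem inXb_mem {g : ℕ} (h : inXb g = true) : inX g := by
  rw [inXb, force_eq, force_eq] at h
  exact fnd_mem h

/-- one step of a span -/
def ext (b : ℕ) (L : List ℕ) : List ℕ := if b ∈ L then L else L ++ L.map (Nat.xor b)

/-- the span of a list of codes -/
def spanD (L : List ℕ) : List ℕ := L.foldr ext [0]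

/-- the codes of `H` -/
def inH (a : ℕ) : Prop := BN a 2 = 0 ∧ BN a 197 = 0

instance (a : ℕ) : Decidable (inH a) := by unfold inH; infer_instance

/-- a basis of `H` -/
def HB : List ℕ := [1, 2, 12, 20, 68, 128]

/-- the fifteen points in `H` -/
def OO : List ℕ := [1, 14, 15, 22, 73, 95, 26, 129, 155, 74, 150, 220, 82, 130, 208]

/-- the line of a point -/
def idx (a : ℕ) : Fin 5 :=
  if a ∈ [1, 14, 15] then 0 else if a ∈ [22, 73, 95] then 1 else if a ∈ [26, 129, 155] then 2
  else if a ∈ [74, 150, 220] then 3 else 4

/-- a point on a line -/
def rep (i : Fin 5) : ℕ := ![1, 22, 26, 74, 82] i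

/-- a few elements of the stabiliser -/
def L1 : List ℕ :=
  [1481945744776954518, 1754420176882172498, 10701811434378297986, 994856595707724443,
    6742160062783226383, 1498981272578818586, 5805420578765144591]

/-- a few elements of the stabiliser -/
def L2 : List ℕ :=
  [922165691599487696, 9228146950040257046, 15186346372300866268]

theorem c_TR : ∀ x ∈ TR, x.2.1 ∈ m6.T ∧ mul x.2.1 x.2.2 = ID := by decide +kernel

theorem b_TT : al m6.T (fun g => al m6.T fun h => inXb (mul g h)) = true := by decide +kernel

theorem c_TT : ∀ g ∈ m6.T, ∀ h ∈ m6.T, inX (mul g h) := fun g hg h hh =>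
  inXb_mem (al_mem (al_mem b_TT g hg) h hh)

theorem b_KT : al m6.K (fun g => al m6.T fun h => inXb (mul g h)) = true := by decide +kernel

theorem c_KT : ∀ g ∈ m6.K, ∀ h ∈ m6.T, inX (mul g h) := fun g hg h hh =>
  inXb_mem (al_mem (al_mem b_KT g hg) h hh)

theorem b_KK : al m6.K (fun g => al m6.K fun h => force (mul g h) fun x => el x m6.K) = true := by
  decide +kernel

theorem c_KK : ∀ g ∈ m6.K, ∀ h ∈ m6.K, mul g h ∈ m6.K := fun g hg h hh =>
  el_mem ((force_eq _ _).symm.trans (al_mem (al_mem b_KK g hg) h hh))

theorem c_S : ∀ s ∈ m6.S, s ∈ m6.K ∨ ∃ k ∈ m6.K, mul k s = 2323999176054343937 := by decide +kernel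

theorem c_A : (∀ a ∈ m6.A, a ∈ m6.K) ∧ ID ∈ m6.K ∧ ID ∈ m6.T := by decide +kernel

theorem c_P : ∀ p ∈ m6.P, ∃ T ∈ m6.T, ap T 1 = p := by decide +kernel

theorem c_ID : ∀ a < 256, ap ID a = a := by decide +kernel

theorem c_fix : ∀ g ∈ m6.T, ∀ h ∈ m6.K, ap g (ap h 2) = 2 → mul g h ∈ Kt := by decide +kernel

theorem c_real : ∀ g ∈ Kt, m6.inK g ∧ ap g 2 = 2 := by decide +kernel

theorem c_inv : ∀ g ∈ Kt, ∀ a < 256, inH a → inH (ap g a) := by decide +kernel

theorem c_HB : (∀ a < 256, inH a → a ∈ spanD HB) ∧ ∀ a ∈ HB, a < 256 ∧ inH a := by
  decide +kernel

theorem c_span : (∀ a ∈ HB, a ∈ spanD [1, 14, 22, 73, 26, 129]) ∧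
    ∀ a ∈ [1, 14, 22, 73, 26, 129], ∃ g ∈ Kt, ap g 1 = a := by decide +kernel

theorem c_cp : ∀ g ∈ Kt, (∀ a ∈ HB, Nat.xor (ap g a) a = 0 ∨ Nat.xor (ap g a) a = 2) → g = ID := by
  decide +kernel

theorem c_L : (∀ g ∈ L1, g ∈ Kt) ∧ ∀ g ∈ L2, g ∈ Kt := by decide +kernel

theorem c_irr : ∀ a < 256, inH a → a = 0 ∨ a = 2 ∨ a = 197 ∨ a = 199 ∨
    ∀ b ∈ HB, b ∈ spanD (2 :: L1.map fun g => ap g a) := by decide +kernel

theorem c_tin : ∀ g ∈ Kt, g = ID ∨
    2 ∈ spanD (L2.flatMap fun h => HB.map fun a => ap h (Nat.xor (ap g a) a)) := by
  decide +kernel

theorem c_tri : 918770391471948508 ∈ Kt ∧ 919066154584900118 ∈ Kt ∧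
    ap 918770391471948508 1 = 220 ∧ ap 919066154584900118 1 = 22 := by decide +kernel

theorem c_rep : ∀ i, rep i < 256 ∧ idx (rep i) = i ∧ ∀ g ∈ Kt, ap g (rep i) ∈ OO := by
  decide +kernel

theorem c_idx : ∀ g ∈ Kt, ∀ x ∈ OO, idx (ap g x) = idx (ap g (rep (idx x))) := by decide +kernel

theorem c_ker : ∀ g ∈ Kt, (∀ i, idx (ap g (rep i)) = i) → g = ID := by decide +kernel

theorem c_swap : ∀ i j : Fin 5, ∃ g ∈ Kt, ∀ l, idx (ap g (rep l)) = Equiv.swap i j l := by
  decide +kernel

theorem c_card : ((List.range 256).filter fun a => decide (inH a)).length = 64 := by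
  decide +kernel

end Cfsg.Agent.H6.X9T
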