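import Mathlib
import Cfsg.Agent.H29.ASE8a
import Cfsg.Agent.H40.InvCertE8
import Cfsg.Agent.H34.SSC
import Cfsg.Agent.H50.SL2C

/-! Definitions and statements of the pieces: `E₈(2)` has no maximal subgroup with generalized
Fitting subgroup `L₂(64)`. -/

set_option autoImplicit false

namespace Cfsg.Agent.H6.E82

open Equiv Cfsg.Lie H37 H40 H34 H29 Module H82 H50.SL2S Finset
open scoped Matrix MatrixGroups

abbrev K : Type := AlgebraicClosure (ZMod 2)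
noncomputable def C8 : Cert chevE8 := cert (by simp)
abbrev G0 : Type := chevE8.group (ZMod 2)
abbrev GK : Type := chevE8.group K
abbrev V : Type := chevE8.Idx → K
abbrev Rt : Type := Fin chevE8.nroots
abbrev Ix : Type := Fin chevE8.rank
noncomputable abbrev P8 : Split C8.S GK := C8.split K
noncomputable def ι : G0 →* GK := C8.V.fieldHom (algebraMap (ZMod 2) K)
noncomputable def φ : GK →* GK := C8.V.fieldHom (frobenius K 2)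

theorem ι_injective : Function.Injective ι := C8.V.fieldHom_injective _

/-- The action on the adjoint module. -/
noncomputable def act : GK →* Module.End K V :=
  ((Matrix.toLinAlgEquiv' : Matrix chevE8.Idx chevE8.Idx K ≃ₐ[K] _) : _ →* _).comp
    ((Units.coeHom _).comp (Subgroup.subtype _))

theorem act_apply (g : GK) (v : V) : act g v = (g.1.1 : Matrix chevE8.Idx chevE8.Idx K) *ᵥ v :=
  Matrix.toLinAlgEquiv'_apply _ _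

noncomputable def eig (g : GK) (ζ : K) : Submodule K V := Module.End.eigenspace (act g) ζ

theorem mem_eig {g : GK} {ζ : K} {v : V} : v ∈ eig g ζ ↔ act g v = ζ • v :=
  Module.End.mem_eigenspace_iff

noncomputable def mu (g : GK) (ζ : K) : ℕ := finrank K (eig g ζ)

/-- The Cartan subalgebra. -/
def Cart : Submodule K V where
  carrier := {v | ∀ r, v (Sum.inr r) = 0}
  add_mem' ha hb r := by simp [ha r, hb r]
  zero_mem' _ := rfl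
  smul_mem' c v hv r := by simp [hv r]

/-- The Frobenius map on coordinates. -/
noncomputable def Fr (v : V) : V := fun i => v i ^ 2
noncomputable abbrev ng (r : Rt) : Rt := C8.R.neg r
noncomputable abbrev pr (r s : Rt) : ℤ := C8.R.pair r s
noncomputable abbrev ee (r : Rt) : V := eV chevE8 K r
noncomputable abbrev hr (r : Rt) : V := hR chevE8 K r
noncomputable def xx (r : Rt) (t : K) : GK := C8.xg K r t
noncomputable def nn (l : List Ix) : GK := C8.nWg K l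
/-- The value of the root `r` on the Cartan part of `v`. -/
noncomputable def ev (r : Rt) (v : V) : K := ∑ i, v (Sum.inl i) * (C8.R.wt r i : K)

/-- The Lie bracket in characteristic two. -/
noncomputable def br0 (a b : V) : V :=
  Sum.elim (fun i => ∑ r, a (Sum.inr r) * b (Sum.inr (ng r)) * (C8.R.co r i : K))
    fun u => ev u a * b (Sum.inr u) + a (Sum.inr u) * ev u b +
      ∑ r, if pr r u = 1 then a (Sum.inr r) * b (Sum.inr (C8.R.τ r u)) else 0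

theorem ev_add (r : Rt) (a b : V) : ev r (a + b) = ev r a + ev r b := by
  simp only [ev, Pi.add_apply, add_mul, sum_add_distrib]

theorem ev_smul (r : Rt) (c : K) (a : V) : ev r (c • a) = c * ev r a := by
  simp only [ev, Pi.smul_apply, smul_eq_mul, mul_sum, mul_assoc]

noncomputable def br : V →ₗ[K] V →ₗ[K] V :=
  LinearMap.mk₂ K br0
    (fun a a' b => funext fun j => by
      rcases j with i | u
      · simp only [br0, Sum.elim_inl, Pi.add_apply, add_mul, sum_add_distrib]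
      · simp only [br0, Sum.elim_inr, Pi.add_apply, add_mul, ev_add, ite_add_zero, sum_add_distrib]
        ring)
    (fun c a b => funext fun j => by
      rcases j with i | u
      · simp only [br0, Sum.elim_inl, Pi.smul_apply, smul_eq_mul, mul_sum, mul_assoc]
      · simp only [br0, Sum.elim_inr, Pi.smul_apply, smul_eq_mul, ev_smul, mul_add, mul_sum,
          mul_ite, mul_zero, mul_assoc])
    (fun a b b' => funext fun j => by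
      rcases j with i | u
      · simp only [br0, Sum.elim_inl, Pi.add_apply, add_mul, mul_add, sum_add_distrib]
      · simp only [br0, Sum.elim_inr, Pi.add_apply, mul_add, ev_add, ite_add_zero, sum_add_distrib]
        ring)
    (fun c a b => funext fun j => by
      rcases j with i | u
      · simp only [br0, Sum.elim_inl, Pi.smul_apply, smul_eq_mul, mul_sum, mul_assoc, mul_left_comm]
      · simp only [br0, Sum.elim_inr, Pi.smul_apply, smul_eq_mul, ev_smul, mul_add, mul_sum,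
          mul_ite, mul_zero, mul_left_comm])

theorem br_inl (a b : V) (i : Ix) :
    br a b (Sum.inl i) = ∑ r, a (Sum.inr r) * b (Sum.inr (ng r)) * (C8.R.co r i : K) := rfl

theorem br_inr (a b : V) (u : Rt) : br a b (Sum.inr u) = ev u a * b (Sum.inr u) +
    a (Sum.inr u) * ev u b +
      ∑ r, if pr r u = 1 then a (Sum.inr r) * b (Sum.inr (C8.R.τ r u)) else 0 := rfl

/-- The invariant form. -/
noncomputable def kap : LinearMap.BilinForm K V :=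
  LinearMap.mk₂ K (fun a b : V => ∑ r, a (Sum.inr r) * b (Sum.inr (ng r)) +
      ∑ i, ∑ j, a (Sum.inl i) * b (Sum.inl j) * (C8.R.A i j : K))
    (fun a a' b => by simp only [Pi.add_apply, add_mul, sum_add_distrib]; ring)
    (fun c a b => by simp only [Pi.smul_apply, smul_eq_mul, mul_add, mul_sum, mul_assoc])
    (fun a b b' => by simp only [Pi.add_apply, add_mul, mul_add, sum_add_distrib]; ring)
    (fun c a b => by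
      simp only [Pi.smul_apply, smul_eq_mul, mul_add, mul_sum, mul_assoc, mul_left_comm])

theorem kap_apply (a b : V) : kap a b = ∑ r, a (Sum.inr r) * b (Sum.inr (ng r)) +
    ∑ i, ∑ j, a (Sum.inl i) * b (Sum.inl j) * (C8.R.A i j : K) := rfl

/-! ### The Lie algebra -/

/-- **RF** -/
def RfStmt : Prop :=
  (∀ r s : Rt, s = ng r ∨ pr r s = -1 ∨ 0 ≤ pr r s) ∧
  (∀ r s : Rt, s = r ∨ pr r s ≤ 1) ∧ (∀ r s : Rt, pr r s = pr s r) ∧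
  (∀ (r : Rt) (i : Ix), C8.R.co r i = C8.R.rc r i) ∧ (∀ i j : Ix, C8.R.A i j = C8.R.A j i) ∧
  (∀ r s u : Rt, C8.R.rc u = C8.R.rc r + C8.R.rc s → pr r s = -1) ∧
  (∀ r : Rt, ∃ s t : Rt, pr s t = -1 ∧ C8.R.τ s t = r) ∧
  (∀ r : Rt, ∃ h ∈ Cart, ev r h = 1) ∧
  (∀ r s : Rt, s ≠ r → s ≠ ng r → ∃ h ∈ Cart, ev r h = 1 ∧ ev s h = 0) ∧
  (∀ c : Ix → K, ∃ h ∈ Cart, ∀ j, ev (C8.R.simple j) h = c j) ∧
  (∀ h ∈ Cart, (∀ j, ev (C8.R.simple j) h = 0) → h = 0) ∧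
  ∀ (r : Rt) (v : V), ev r v = ∑ j, (C8.R.rc r j : K) * ev (C8.R.simple j) v

/-- **BRB** -/
def BrbStmt : Prop :=
  (∀ a, br a a = 0) ∧ (∀ a b, br a b = br b a) ∧
  (∀ h ∈ Cart, ∀ h' ∈ Cart, br h h' = 0) ∧
  (∀ h ∈ Cart, ∀ r, br h (ee r) = ev r h • ee r) ∧
  (∀ r, br (ee r) (ee (ng r)) = hr r) ∧
  (∀ r s, pr r s = -1 → br (ee r) (ee s) = ee (C8.R.τ r s)) ∧
  (∀ r s, 0 ≤ pr r s → br (ee r) (ee s) = 0) ∧ ∀ a b, Fr (br a b) = br (Fr a) (Fr b)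

/-- **BRC** -/
def BrcStmt : Prop :=
  (∀ r, hr r ∈ Cart) ∧ (∀ r s, ev r (hr s) = (pr s r : K)) ∧ (∀ r, hr (ng r) = hr r) ∧
  (∀ r s, pr r s = -1 → hr (C8.R.τ r s) = hr r + hr s) ∧
  (∀ r s, ee r (Sum.inr s) = if s = r then 1 else 0) ∧ (∀ r i, ee r (Sum.inl i) = 0) ∧
  (∀ r s, ev r (ee s) = 0) ∧ (∀ r v, ev (ng r) v = ev r v) ∧
  (∀ r s v, pr r s = -1 → ev (C8.R.τ r s) v = ev r v + ev s v) ∧
  (∀ v : V, ∃ h ∈ Cart, (∀ r, ev r h = ev r v) ∧ v = h + ∑ r, v (Sum.inr r) • ee r) ∧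
  (∀ r v, ev r (Fr v) = ev r v ^ 2) ∧ (∀ r, ng (ng r) = r ∧ ng r ≠ r ∧ hr r ≠ 0) ∧
  (∀ r s, pr r (ng s) = -pr r s ∧ pr (ng r) s = -pr r s) ∧ (∀ r v, kap v (hr r) = ev r v) ∧
  (∀ r s, C8.R.τ r (C8.R.τ r s) = s ∧ pr r (C8.R.τ r s) = -pr r s) ∧
  (∀ r s, pr r s = -1 → C8.R.τ r s = C8.R.τ s r ∧
    ∀ u, pr u (C8.R.τ r s) = pr u r + pr u s) ∧ Function.Injective act

/-- **XACT** -/
def XactStmt : Prop := (∀ (r : Rt) (t : K) (v : V),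
  act (xx r t) v = v + t • br (ee r) v + (t ^ 2 * v (Sum.inr (ng r))) • ee r) ∧
  ∀ r : Rt, ι (C8.xg (ZMod 2) r 1) = xx r 1

/-- **JAC1** -/
def Jac1Stmt : Prop := ∀ r s t : Rt,
  br (ee r) (br (ee s) (ee t)) = br (br (ee r) (ee s)) (ee t) + br (ee s) (br (ee r) (ee t))

/-- **JAC** -/
def JacStmt : Prop := ∀ a b c : V, br a (br b c) = br (br a b) c + br b (br a c)

/-- **X2** -/
def X2Stmt : Prop := (∀ (r : Rt) (a b : V), br a b (Sum.inr (ng r)) • ee r =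
    a (Sum.inr (ng r)) • br (ee r) b + br (br (ee r) a) (br (ee r) b) +
      b (Sum.inr (ng r)) • br a (ee r)) ∧
  ∀ (r : Rt) (b : V), br (ee r) (br (ee r) b) = 0

/-- **TAU** -/
def TauStmt : Prop := (∀ a b, kap a b = kap b a) ∧ (∀ a b c, kap (br a b) c = kap a (br b c)) ∧
  (∀ a, (∀ b, kap a b = 0) → a = 0) ∧ ∀ r b, kap (ee r) b = b (Sum.inr (ng r))

/-- **BRG** -/
def BrgStmt : Prop := ∀ (g : GK) (a b : V),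
  act g (br a b) = br (act g a) (act g b) ∧ kap (act g a) (act g b) = kap a b

def IsDer (D : V →ₗ[K] V) : Prop := ∀ a b, D (br a b) = br (D a) b + br a (D b)

/-- **DER1** -/
def Der1Stmt : Prop := ∀ D, IsDer D → ∃ t, ∀ h ∈ Cart, D h + br t h ∈ Cart

/-- **DER2** -/
def Der2Stmt : Prop := ∀ D, IsDer D → (∀ h ∈ Cart, D h ∈ Cart) → (∀ h ∈ Cart, D h = 0) ∧
  ∃ c : Rt → K, ∀ r, D (ee r) = c r • ee r

/-- **DER** -/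
def DerStmt : Prop := (∀ D, IsDer D → ∃ t, ∀ v, D v = br t v) ∧ ∀ t, (∀ v, br t v = 0) → t = 0

/-- **VG** -/
def VgStmt : Prop := (∀ v : V, (∀ g : G0, act (ι g) v = v) → v = 0) ∧
  ∀ (S : Set G0) (v : V), v ≠ 0 → (∀ g ∈ S, act (ι g) v = v) →
    ∃ v' : V, v' ≠ 0 ∧ Fr v' = v' ∧ ∀ g ∈ S, act (ι g) v' = v'

/-! ### Semisimple elements -/

def cnt (s : ℕ) (f : Rt → ℤ) (e : ℕ) : ℕ := (if e = 0 then 8 else 0) + z0 s fun r => f r - e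

/-- **MU** -/
def MuStmt : Prop :=
  (∀ (g g' : GK) (ζ : K), IsConj g g' → mu g ζ = mu g' ζ) ∧
  (∀ (ζ : Kˣ) (h : GK) (f : Rt → ℤ), Lab C8 ζ h f → ∀ v : V,
    (∀ i, act h v (Sum.inl i) = v (Sum.inl i)) ∧
      ∀ r, act h v (Sum.inr r) = ((ζ ^ f r : Kˣ) : K) * v (Sum.inr r)) ∧
  ∀ (ζ : Kˣ) (s : ℕ) (h : GK) (f : Rt → ℤ), IsPrimitiveRoot ζ s → Lab C8 ζ h f → ∀ e < s,
    mu h ((ζ : K) ^ e) = cnt s f e

/-- **SS** -/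
def SsStmt : Prop := ∀ (g : G0) (s : ℕ) (ζ : Kˣ), Odd s → IsPrimitiveRoot ζ s → g ^ s = 1 →
  ∃ h f, Lab C8 ζ h f ∧ IsConj h (ι g) ∧ ∃ w ∈ C8.S.W, ∀ r, (f (w r) : ZMod s) = 2 * f r

/-- **CONJ** -/
def ConjStmt : Prop := ∀ g g' : G0, Odd (orderOf g) → IsConj (ι g) (ι g') → IsConj g g'

/-- **FRAME** -/
def FrameStmt : Prop := (∀ n : GK, ∃ y, φ y = y * n) ∧ (∀ g : GK, φ g = g → ∃ x, ι x = g) ∧
  (∀ g : G0, φ (ι g) = ι g) ∧ (∀ g v, Fr (act g v) = act (φ g) (Fr v)) ∧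
  (∀ r t, φ (xx r t) = xx r (t ^ 2)) ∧ ∀ h ∈ P8.H, φ h = h ^ 2

/-- **NACT** -/
def NactStmt : Prop := ∀ l : List Ix, nn l ∈ P8.N ∧ P8.ν (nn l) = C8.S.word l ∧
  (∀ r t, nn l * xx r t * (nn l)⁻¹ = xx (C8.S.word l r) t) ∧
  (∀ r v, act (nn l) v (Sum.inr (C8.S.word l r)) = v (Sum.inr r)) ∧
  (∀ r v, ev (C8.S.word l r) (act (nn l) v) = ev r v) ∧
  ∀ r, C8.S.word l (ng r) = ng (C8.S.word l r)

def ix (n : ℕ) : Ix := ⟨n % 8, Nat.mod_lt _ (by decide)⟩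
def rt (n : ℕ) : Rt := ⟨n % 240, Nat.mod_lt _ (by decide)⟩

def rep (i : ℕ) : List ℕ := [[40, 1, 26, 13, 1, 52, 26, 27], [40, 27, 52, 26, 1, 26, 26, 14],
  [1, 27, 0, 52, 40, 0, 26, 1], [1, 53, 26, 0, 1, 13, 0, 14], [27, 1, 52, 0, 27, 26, 0, 53],
  [53, 1, 0, 26, 40, 0, 13, 53]].getD i []

def wtail (i : ℕ) : List ℕ := [[2, 1, 3, 4, 5, 0, 2, 3, 4, 2, 1, 3, 0, 2, 0],
  [0, 2, 1, 3, 4, 5, 0, 2, 3, 4, 1, 3, 0, 2, 0], [2, 1, 3, 4, 5, 0, 2, 3, 4, 0, 2, 1, 3, 2, 0],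
  [2, 1, 3, 4, 5, 0, 2, 3, 4, 2, 1, 3, 0, 2, 0], [2, 1, 3, 4, 5, 0, 2, 3, 4, 2, 1, 3, 0, 2, 0],
  [2, 1, 3, 4, 5, 0, 2, 3, 4, 0, 2, 1, 3, 2, 0]].getD i []

def wN (i : ℕ) : List ℕ := [0, 2, 1, 3, 4, 5, 6, 7, 2, 1, 3, 4, 5, 6, 0, 2, 3, 4, 5, 1, 3, 4, 2, 3,
  0, 2, 1, 3, 4, 5, 6, 7] ++ (if i < 2 then [6] else []) ++ [0, 2, 3, 4, 5, 1, 3, 4, 2, 3, 0, 2, 1,
  3, 4, 5, 6, 5, 4, 3] ++ wtail i

def wl (i : ℕ) : List Ix := (wN i).map ix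
def g5 (i : ℕ) : List ℕ := if i = 0 then [4, 0, 2, 4, 2, 3, 3, 2] else [4, 0, 2, 4, 0, 2, 1, 2]
def al (i : ℕ) : Rt := rt (if i = 2 ∨ i = 5 then 123 else 121)
def be (i : ℕ) : Rt := rt (if i = 2 ∨ i = 5 then 135 else 130)

def pat (i e : ℕ) : ℕ := ([[8, 4, 4, 3, 4, 5, 3, 4, 4, 4, 5, 3, 3, 3, 4, 5, 4, 3, 4, 3, 5, 3, 3, 3, 3,
    5, 3, 3, 4, 4, 5, 3, 4, 4, 3, 5, 4, 4, 3, 3, 5, 3, 3, 3, 3, 5, 3, 4, 3, 4, 5, 4, 3, 3, 3, 5, 4,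
    4, 4, 3, 5, 4, 3, 4, 4], [8, 3, 3, 4, 3, 5, 4, 3, 3, 3, 5, 4, 4, 3, 3, 5, 3, 4, 3, 4, 5, 4, 4,
    4, 4, 5, 3, 4, 3, 3, 5, 4, 3, 3, 4, 5, 3, 3, 4, 3, 5, 4, 4, 4, 4, 5, 4, 3, 4, 3, 5, 3, 3, 4, 4,
    5, 3, 3, 3, 4, 5, 3, 4, 3, 3], [12, 4, 4, 3, 4, 3, 3, 2, 4, 2, 3, 7, 3, 2, 2, 3, 4, 3, 2, 7, 3,
    7, 7, 7, 3, 3, 2, 7, 2, 2, 3, 3, 4, 4, 3, 3, 2, 2, 7, 2, 3, 3, 7, 7, 7, 3, 7, 2, 3, 4, 3, 2, 2,
    3, 7, 3, 2, 4, 2, 3, 3, 4, 3, 4, 4], [12, 3, 3, 2, 3, 3, 2, 7, 3, 7, 3, 4, 2, 2, 7, 3, 3, 2, 7,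
    4, 3, 4, 4, 4, 2, 3, 2, 4, 7, 7, 3, 2, 3, 3, 2, 3, 7, 7, 4, 2, 3, 2, 4, 4, 4, 3, 4, 7, 2, 3, 3,
    7, 2, 2, 4, 3, 7, 3, 7, 2, 3, 3, 2, 3, 3], [12, 2, 2, 7, 2, 3, 7, 4, 2, 4, 3, 3, 7, 2, 4, 3, 2,
    7, 4, 3, 3, 3, 3, 3, 7, 3, 2, 3, 4, 4, 3, 7, 2, 2, 7, 3, 4, 4, 3, 2, 3, 7, 3, 3, 3, 3, 3, 4, 7,
    2, 3, 4, 2, 7, 3, 3, 4, 2, 4, 7, 3, 2, 7, 2, 2], [12, 7, 7, 4, 7, 3, 4, 3, 7, 3, 3, 2, 4, 2, 3,
    3, 7, 4, 3, 2, 3, 2, 2, 2, 4, 3, 2, 2, 3, 3, 3, 4, 7, 7, 4, 3, 3, 3, 2, 2, 3, 4, 2, 2, 2, 3, 2,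
    3, 4, 7, 3, 3, 2, 4, 2, 3, 3, 7, 3, 4, 3, 7, 4, 7, 7]].getD i []).getD e 0

def pat3 (e : ℕ) : ℕ := [12, 7, 7, 4, 7, 3, 4, 3, 7, 3, 3, 2, 4, 2, 3, 4, 7, 3, 3, 2, 3, 4, 2, 3, 4,
  2, 2, 3, 3, 3, 4, 7, 7, 4, 3, 3, 3, 2, 2, 4, 3, 2, 4, 3, 2, 3, 3, 7, 4, 3, 2, 4, 2, 3, 3, 7, 3, 4,
  3, 7, 4, 7, 7].getD e 0

def c21 (e : ℕ) : ℕ :=
  [20, 12, 12, 11, 12, 12, 11, 9, 12, 11, 12, 12, 11, 12, 9, 11, 12, 12, 11, 12, 12].getD e 0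

/-- **DATA** -/
def DatAStmt : Prop := ∀ i < 6, (∀ e < 65, cnt 65 (vN C8 (rep i)) e = pat i e) ∧
  (i < 2 → (∀ r, (vN C8 (rep i) r : ZMod 65) ≠ 0) ∧
    ¬ ∃ k : ℕ, ∀ r, ((13 * vN C8 (g5 i) r : ℤ) : ZMod 65) = k * vN C8 (rep i) r) ∧
  (2 ≤ i → pr (al i) (be i) = 0 ∧ ∀ r, (vN C8 (rep i) r : ZMod 65) = 0 ↔
    r = al i ∨ r = ng (al i) ∨ r = be i ∨ r = ng (be i))

/-- **DATB** -/
def DatBStmt : Prop := ∀ i < 6,
  (∀ r, (vN C8 (rep i) (C8.S.word (wl i) r) : ZMod 65) = 2 * vN C8 (rep i) r) ∧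
  (i < 2 → ∀ r, (vN C8 (g5 i) (C8.S.word (wl i) r) : ZMod 5) = 2 * vN C8 (g5 i) r) ∧
  (2 ≤ i → C8.S.word (wl i) (al i) = be i ∧ C8.S.word (wl i) (be i) = al i)

/-- `40 a + 26 y` with `a = [1,1,0,0,1,0,0,1]` and `y = a α₂ + b α₃ + c α₅ + d α₆` modulo `5`. -/
def a65 (a b c d : ℕ) : List ℕ :=
  [(40 + 26 * (4 * a)) % 65, (40 + 26 * (4 * b)) % 65, (26 * (2 * a + 4 * b)) % 65,
    (26 * (4 * a + 2 * b)) % 65, (40 + 26 * (4 * b + 4 * c)) % 65, (26 * (2 * c + 4 * d)) % 65,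
    (26 * (4 * c + 2 * d)) % 65, (40 + 26 * (4 * d)) % 65]

/-- **L65A** -/
def L65aStmt : Prop := ∀ f, IsAdd C8.R f → ∀ w ∈ C8.S.W, (∀ r, (f (w r) : ZMod 65) = 2 * f r) →
  Rp C8 13 [1, 1, 0, 0, 1, 0, 0, 1] f → ∃ a < 5, ∃ b < 5, ∃ c < 5, ∃ d < 5, Rp C8 65 (a65 a b c d) f

/-- **L65B** -/
def L65bStmt : Prop := ∀ f, IsAdd C8.R f → ∀ w ∈ C8.S.W, (∀ r, (f (w r) : ZMod 65) = 2 * f r) →
  ∀ a < 5, ∀ b < 5, ∀ c < 5, ∀ d < 5, Rp C8 65 (a65 a b c d) f →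
    (a = 0 ∧ b = 0 ∧ c = 0 ∧ d = 0) ∨ ∃ i < 6, ∃ u ∈ C8.S.W, Rp C8 65 (rep i) fun r => f (u r)

/-- **L65** -/
def L65Stmt : Prop := ∀ (x : G0) (ζ : Kˣ), orderOf x = 65 → IsPrimitiveRoot ζ 65 →
  ∃ i < 6, ∃ t, Lab C8 ζ t (vN C8 (rep i)) ∧ IsConj t (ι x)

/-- **Z7** -/
def Z7Stmt : Prop := ∀ f, IsAdd C8.R f → ∀ w ∈ C8.S.W, (∀ r, (f (w r) : ZMod 7) = 2 * f r) →
  z0 7 f = 240 ∨ z0 7 f = 72 ∨ z0 7 f = 30

/-- **Z9** -/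
def Z9Stmt : Prop := ∀ f, IsAdd C8.R f → ∀ w ∈ C8.S.W, (∀ r, (f (w r) : ZMod 9) = 2 * f r) →
  z0 9 f ≠ 30 ∧ z0 9 f ≠ 24 ∧ z0 9 f ≠ 18

/-- **R3A** -/
def R3aStmt : Prop := ∀ f, IsAdd C8.R f → (∀ e < 21, cnt 21 f e = c21 e) →
  ∃ u ∈ C8.S.W, Rp C8 21 [2, 1, 0, 0, 1, 0, 0, 3] fun r => f (u r)

/-- **R3B** -/
def R3bStmt : Prop := ∀ f, IsAdd C8.R f → Rp C8 21 [2, 1, 0, 0, 1, 0, 0, 3] f →
  ¬ ∀ e < 63, cnt 63 f e = pat3 e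

/-- The restrictions on the eigenvalue multiplicities `c` of an element of order `63`. -/
def Ok63 (c : ℕ → ℕ) : Prop :=
  (∑ k ∈ range 9, c (7 * k) = 248 ∨ ∑ k ∈ range 9, c (7 * k) = 80 ∨ ∑ k ∈ range 9, c (7 * k) = 38) ∧
  ∑ k ∈ range 7, c (9 * k) ≠ 38 ∧ ∑ k ∈ range 7, c (9 * k) ≠ 32 ∧ ∑ k ∈ range 7, c (9 * k) ≠ 26

/-- **T63** -/
def T63Stmt : Prop := ∀ f, IsAdd C8.R f → ∀ w ∈ C8.S.W, (∀ r, (f (w r) : ZMod 63) = 2 * f r) →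
  Ok63 (cnt 63 f) ∧ ¬ ∀ e < 63, cnt 63 f e = pat3 e

/-! ### The centraliser of an element of order `65` -/

noncomputable def b3 (v : Fin 8 → V) : V :=
  br (br (br (v 0) (v 1)) (br (v 2) (v 3))) (br (br (v 4) (v 5)) (br (v 6) (v 7)))

def Sup (α β : Rt) (v : V) : Prop :=
  ∀ r, r ≠ α → r ≠ ng α → r ≠ β → r ≠ ng β → v (Sum.inr r) = 0

/-- **SOLV** -/
def SolvStmt : Prop := ∀ α β : Rt, pr α β = 0 → ∀ v : Fin 8 → V, (∀ i, Sup α β (v i)) → b3 v = 0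

abbrev K4 : Type := K × K × K × K
noncomputable def Um (t : K) (x : K4) : K4 :=
  (x.1, x.2.1 + t * x.1 + t ^ 2 * x.2.2.1, x.2.2.1, x.2.2.2 + t * x.2.2.1)
noncomputable def Lm (t : K) (x : K4) : K4 :=
  (x.1, x.2.1, x.2.2.1 + t * x.1 + t ^ 2 * x.2.1, x.2.2.2 + t * x.2.1)
noncomputable def wd (t : Fin 4 → K) (x : K4) : K4 := Um (t 0) (Lm (t 1) (Um (t 2) (Lm (t 3) x)))

/-- **F4** -/
def F4Stmt : Prop := ∀ l a b : K, l ^ 4 = l → a ^ 4 = a → b ^ 4 = b →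
  ∃ t : Fin 4 → K, (∀ i, t i ^ 4 = t i) ∧ wd t (l, a, b, 0) = (l, a, b, 0) ∧
    (wd t (0, 1, 0, 0) ≠ (0, 1, 0, 0) ∨ wd t (0, 0, 1, 0) ≠ (0, 0, 1, 0))

noncomputable def x2 (α β : Rt) (t : K) : GK := xx α t * xx β (t ^ 2)
noncomputable def gw (α β : Rt) (t : Fin 4 → K) : GK :=
  x2 α β (t 0) * x2 (ng α) (ng β) (t 1) * x2 α β (t 2) * x2 (ng α) (ng β) (t 3)

noncomputable def vv (α β : Rt) (h : V) (x y : K4) : V :=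
  h + x.2.1 • ee α + x.2.2.1 • ee (ng α) + x.2.2.2 • hr α +
    y.2.1 • ee β + y.2.2.1 • ee (ng β) + y.2.2.2 • hr β

/-- **GWA** -/
def GwaStmt : Prop := ∀ α β : Rt, pr α β = 0 → ∀ (t : Fin 4 → K), ∀ h ∈ Cart, ∀ x y : K4,
  x.1 = ev α h → y.1 = ev β h →
    act (gw α β t) (vv α β h x y) = vv α β h (wd t x) (wd (fun i => t i ^ 2) y)

def Tw (α β : Rt) (v : V) : Prop :=
  v (Sum.inr β) = v (Sum.inr α) ^ 2 ∧ v (Sum.inr α) = v (Sum.inr β) ^ 2 ∧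
  v (Sum.inr (ng β)) = v (Sum.inr (ng α)) ^ 2 ∧ v (Sum.inr (ng α)) = v (Sum.inr (ng β)) ^ 2 ∧
  ev β v = ev α v ^ 2 ∧ ev α v = ev β v ^ 2

/-- **STAB** -/
def StabStmt : Prop := ∀ α β : Rt, pr α β = 0 → ∀ A : Set V, (∀ v ∈ A, Sup α β v ∧ Tw α β v) →
  (∀ a ∈ A, ∀ b ∈ A, br a b = 0) → ∃ t : Fin 4 → K, (∀ i, t i ^ 4 = t i) ∧
    (∀ v ∈ A, act (gw α β t) v = v) ∧
    (act (gw α β t) (ee α) ≠ ee α ∨ act (gw α β t) (ee (ng α)) ≠ ee (ng α))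

def TwP (t n : GK) : Prop :=
  n * φ t * n⁻¹ = t ∧ (∀ v : Fin 8 → V, (∀ i, act t (v i) = v i) → b3 v = 0) ∧
  ∀ A : Set V, (∀ v ∈ A, act n (Fr v) = v ∧ act t v = v) → (∀ a ∈ A, ∀ b ∈ A, br a b = 0) →
    ∃ g : GK, n * φ g * n⁻¹ = g ∧ Commute g t ∧ g ∉ Subgroup.zpowers t ∧ ∀ v ∈ A, act g v = v

/-- **TWA** -/
def TwaStmt : Prop := ∀ i < 2, ∀ (ζ : Kˣ) (t : GK), IsPrimitiveRoot ζ 65 →
  Lab C8 ζ t (vN C8 (rep i)) → TwP t (nn (wl i))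

/-- **TWB** -/
def TwbStmt : Prop := ∀ i < 6, 2 ≤ i → ∀ (ζ : Kˣ) (t : GK), IsPrimitiveRoot ζ 65 →
  Lab C8 ζ t (vN C8 (rep i)) → TwP t (nn (wl i))

def EndP (x : G0) : Prop :=
  (∀ v : Fin 8 → V, (∀ i, act (ι x) (v i) = v i) → b3 v = 0) ∧
  ∀ A : Set V, (∀ v ∈ A, Fr v = v ∧ act (ι x) v = v) → (∀ a ∈ A, ∀ b ∈ A, br a b = 0) →
    ∃ g : G0, Commute g x ∧ g ∉ Subgroup.zpowers x ∧ ∀ v ∈ A, act (ι g) v = v

/-- **END** -/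
def EndStmt : Prop := ∀ (x : G0) (t n : GK), Odd (orderOf x) → IsConj t (ι x) → TwP t n → EndP x

/-! ### Modules of `SL₂(64)` -/

abbrev F : Type := GaloisField 2 6
noncomputable instance instFintypeF : Fintype F := Fintype.ofFinite _
noncomputable instance instDecEqF : DecidableEq F := Classical.decEq _
abbrev SL : Type := SL(2, F)

theorem card_F : Fintype.card F = 64 := by
  rw [← Nat.card_eq_fintype_card, GaloisField.card 2 6 (by decide)]; rfl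

structure Par where
  κ : F →+* K
  θ : Kˣ
  τ : F
  l : Fˣ
  hθ : IsPrimitiveRoot θ 65
  hτ : κ τ = (θ : K) + ((θ⁻¹ : Kˣ) : K)
  hl : IsPrimitiveRoot l 63

noncomputable def x0 (p : Par) : SL := ⟨!![0, -1; 1, p.τ], by simp [Matrix.det_fin_two_of]⟩
noncomputable def t0 (p : Par) : SL := hh (p.l : F) p.l.ne_zero
noncomputable def lam (p : Par) : Kˣ := Units.map p.κ.toMonoidHom p.l

/-- **PAR** -/
def ParStmt : Prop := Nonempty Par ∧ ∀ p : Par, orderOf (x0 p) = 65 ∧ orderOf (t0 p) = 63 ∧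
  (∀ a, p.κ a ≠ p.θ) ∧ IsPrimitiveRoot (lam p) 63 ∧ ∀ s hs, ∃ k : ℕ, hh s hs = t0 p ^ k

def JS (r : ℕ) : Finset ℕ := (range (r + 1)).filter fun j => j &&& r = j
def dS (r : ℕ) : ℕ := (JS r).card
def EE (n r e : ℕ) : ℕ := ((JS r).filter fun j => (r + (n - 2) * j) % n = e).card
def sg (r : ℕ) : ℕ := 2 * r % 64 + r / 32
def eps (r : ℕ) : ℕ := if r = 63 then 2 else if r ∈ [1, 2, 4, 8, 16, 32] then 1 else 0
def pw (m : ℕ → ℕ) : ℕ := m 1 + m 2 + m 4 + m 8 + m 16 + m 32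
def SE (m : ℕ → ℕ) (n e : ℕ) : ℕ := ∑ r ∈ range 64, m r * EE n r e

/-- The right regular representation. -/
noncomputable def reg : SL →* Module.End K (SL → K) where
  toFun g := (RR K g).toLinearMap
  map_one' := LinearMap.ext fun f => funext fun x => congrArg f (mul_one x)
  map_mul' g h := LinearMap.ext fun f => funext fun x => congrArg f (mul_assoc x g h).symm

theorem reg_apply (g : SL) (f : SL → K) : reg g f = RR K g f := rfl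

noncomputable def SP (p : Par) (r : ℕ) : Submodule K (SL → K) := Sp K (cc p.κ) (dd p.κ) r
noncomputable def mono (p : Par) (r j : ℕ) : SL → K := cc p.κ ^ (r - j) * dd p.κ ^ j

section
variable {W : Type} [AddCommGroup W] [Module K W] (ρ : SL →* Module.End K W)

def Inv (U : Submodule K W) : Prop := ∀ g, ∀ v ∈ U, ρ g v ∈ U

noncomputable def dm (g : SL) (η : K) (U : Submodule K W) : ℕ :=
  finrank K (U ⊓ Module.End.eigenspace (ρ g) η : Submodule K W)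

def Mult (p : Par) (U : Submodule K W) (m : ℕ → ℕ) : Prop :=
  (∀ e < 65, dm ρ (x0 p) ((p.θ : K) ^ e) U = SE m 65 e) ∧
    ∀ e < 63, dm ρ (t0 p) ((lam p : K) ^ e) U = SE m 63 e

def Step (p : Par) (U U' : Submodule K W) (r : ℕ) : Prop :=
  r < 64 ∧ U ≤ U' ∧ Inv ρ U' ∧ ∃ Φ : W →ₗ[K] (SL → K), (∀ g, ∀ v ∈ U', Φ (ρ g v) = reg g (Φ v)) ∧
    U'.map Φ = SP p r ∧ ∀ v ∈ U', Φ v = 0 ↔ v ∈ U

inductive Ser (p : Par) : Submodule K W → List ℕ → Prop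
  | nil : Ser p ⊥ []
  | cons {U U' : Submodule K W} {L : List ℕ} {r : ℕ} : Ser p U L → Step ρ p U U' r → Ser p U' (r :: L)

/-- The fixed vectors of a set of elements. -/
def Fx (S : Set SL) : Submodule K W where
  carrier := {v | ∀ g ∈ S, ρ g v = v}
  add_mem' ha hb g hg := by rw [map_add, ha g hg, hb g hg]
  zero_mem' g _ := map_zero _
  smul_mem' c v hv g hg := by rw [map_smul, hv g hg]

/-- The cocycles with values in `U` that vanish on the diagonal matrices. -/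
def Zc (U : Submodule K W) : Submodule K (SL → W) where
  carrier := {δ | (∀ g, δ g ∈ U) ∧ (∀ g h, δ (g * h) = δ g + ρ g (δ h)) ∧ ∀ s hs, δ (hh s hs) = 0}
  add_mem' := fun {a b} ha hb => ⟨fun g => U.add_mem (ha.1 g) (hb.1 g), fun g h => by
    simp only [Pi.add_apply, ha.2.1, hb.2.1, map_add]; abel, fun s hs => by
    simp only [Pi.add_apply, ha.2.2, hb.2.2, add_zero]⟩
  zero_mem' := ⟨fun _ => U.zero_mem, fun g h => by simp, fun _ _ => rfl⟩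
  smul_mem' c a ha := ⟨fun g => U.smul_mem c (ha.1 g), fun g h => by
    simp only [Pi.smul_apply, ha.2.1, map_smul, smul_add], fun s hs => by
    simp only [Pi.smul_apply, ha.2.2, smul_zero]⟩

/-- The sum of the elements with square one. -/
noncomputable def Eop : Module.End K W := ∑ g ∈ univ.filter fun g : SL => g * g = 1, ρ g
noncomputable def NU : Module.End K W := ∑ t : F, ρ (uu t)

/-- An invariant non-degenerate symmetric form. -/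
def Form (B : LinearMap.BilinForm K W) : Prop := (∀ a b, B a b = B b a) ∧
  (∀ a, (∀ b, B a b = 0) → a = 0) ∧ ∀ g a b, B (ρ g a) (ρ g b) = B a b

/-- A semilinear injective map commuting with the action. -/
def Semi (fr : W → W) : Prop := (∀ a b, fr (a + b) = fr a + fr b) ∧
  (∀ (c : K) a, fr (c • a) = c ^ 2 • fr a) ∧ Function.Injective fr ∧ ∀ g a, fr (ρ g a) = ρ g (fr a)

/-- `P` is spanned by the translates of a space of dimension at most two fixed by `B`. -/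
def Gen2 (P : Submodule K W) : Prop := ∃ Q : Submodule K W, finrank K Q ≤ 2 ∧
  Q ≤ Fx ρ (BB F) ∧ P ≤ Submodule.span K {v | ∃ g, ∃ q ∈ Q, v = ρ g q}

def Dec (p : Par) (B : LinearMap.BilinForm K W) (W0 P : Submodule K W) : Prop :=
  Inv ρ W0 ∧ Inv ρ P ∧ IsCompl W0 P ∧ (∀ a ∈ W0, ∀ b ∈ P, B a b = 0) ∧ P ≠ ⊥ ∧
  (∃ L, Ser ρ p W0 L ∧ ∀ r ∈ L, dS r ≤ 4) ∧ (∀ N ≤ P, Inv ρ N → N ≠ ⊥ → 64 ≤ finrank K N) ∧ Gen2 ρ P
end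

/-- A statement for all finite dimensional modules. -/
def All (X : ∀ (W : Type) [AddCommGroup W] [Module K W], (SL →* Module.End K W) → Prop) : Prop :=
  ∀ (W : Type) [AddCommGroup W] [Module K W] [FiniteDimensional K W] (ρ : SL →* Module.End K W), X W ρ

/-- **MONO** -/
def MonoStmt : Prop := ∀ p : Par,
  (∃ cf : ℕ → Dual K (SL → K), ∀ r < 64, ∀ i ≤ r, ∀ j, cf j (mono p r i) = if j = i then 1 else 0) ∧
  ∀ r < 64, (∀ f, f ∈ SP p r ↔ ∃ c : ℕ → K, f = ∑ j ∈ JS r, c j • mono p r j) ∧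
    finrank K (SP p r) = dS r ∧ Inv reg (SP p r)

/-- **MONA** -/
def MonaStmt : Prop := ∀ p : Par, ∀ r < 64, ∀ j ≤ r,
    (∀ t, reg (uu t) (mono p r j) = ∑ i ∈ JS j, p.κ t ^ (j - i) • mono p r i) ∧
    (∀ s hs, reg (hh s hs) (mono p r j) = p.κ s ^ (r + 61 * j) • mono p r j) ∧
    reg (ww F) (mono p r j) = mono p r (r - j)

/-- **EIGX** -/
def EigxStmt : Prop := ∀ p : Par, ∀ r < 64, ∀ e < 65, dm reg (x0 p) ((p.θ : K) ^ e) (SP p r) = EE 65 r e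

/-- **EIGT** -/
def EigtStmt : Prop := ∀ p : Par, ∀ r < 64, ∀ e < 63, dm reg (t0 p) ((lam p : K) ^ e) (SP p r) = EE 63 r e

/-- **SER** -/
def SerStmt : Prop := ∀ p : Par, All fun _ _ _ ρ =>
  (∀ U U', Inv ρ U → Inv ρ U' → U < U' → ∃ U'' r, Step ρ p U U'' r ∧ U'' ≤ U') ∧
  (∀ U L, Ser ρ p U L → Inv ρ U ∧ ∀ r ∈ L, r < 64) ∧
  ∀ U L U', Ser ρ p U L → U ≤ U' → Inv ρ U' → ∃ L', Ser ρ p U' (L' ++ L)

/-- **MULT** -/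
def MultStmt : Prop := ∀ p : Par, All fun _ _ _ ρ => ∀ U L, Ser ρ p U L →
  Mult ρ p U (fun r => L.count r) ∧ finrank K U = (L.map dS).sum

/-- **UNI** -/
def UniStmt : Prop := ∀ m m' : ℕ → ℕ, (∀ e < 65, SE m 65 e = SE m' 65 e) →
  (∀ e < 63, SE m 63 e = SE m' 63 e) → ∀ r < 64, m r = m' r

/-- **COCU** -/
def CocuStmt : Prop := ∀ p : Par, ∀ r < 64, ∃ ℓ : Dual K (SL → K), ∀ δ : F → SL → K,
  (∀ t, δ t ∈ SP p r) → (∀ s t, δ (s + t) = δ s + reg (uu s) (δ t)) →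
  (∀ s hs t, δ (s ^ 2 * t) = reg (hh s hs) (δ t)) → eps r = 0 ∨ ℓ (δ 1) = 0 → ∀ t, δ t = 0

/-- **COC** -/
def CocStmt : Prop := ∀ p : Par, ∀ r < 64, finrank K (Zc reg (SP p r)) ≤ eps r

/-- **Z1** -/
def Z1Stmt : Prop := ∀ p : Par, All fun _ _ _ ρ => ∀ U L, Ser ρ p U L →
  finrank K (Zc ρ U) ≤ (L.map eps).sum

/-- **ZZ** -/
def ZzStmt : Prop := ∀ p : Par, All fun W _ _ ρ => ∀ U L, Ser ρ p U L →
  L.count 0 ≤ finrank K (U ⊓ Fx ρ Set.univ : Submodule K W) + pw fun r => L.count r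

/-- **PERP** -/
def PerpStmt : Prop := ∀ p : Par, All fun _ _ _ ρ => ∀ B, Form ρ B → ∀ M m m1 m2, Inv ρ M →
  Mult ρ p ⊤ m → Mult ρ p M m1 → Mult ρ p (B.orthogonal M) m2 → ∀ r < 64, m r = m1 r + m2 r

/-- **FR** -/
def FrStmt : Prop := ∀ p : Par, All fun _ _ _ ρ => ∀ fr, Semi ρ fr → ∀ U m, (∀ v ∈ U, fr v ∈ U) →
  Mult ρ p U m → ∀ r < 64, m (sg r) = m r

/-- **PR1** -/
def Pr1Stmt : Prop := ∀ g : SL, All fun _ _ _ ρ => ∀ fr, Semi ρ fr → ∃ M, Inv ρ M ∧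
  (∀ v ∈ M, fr v ∈ M) ∧ dm ρ g 1 M = 0 ∧ ∀ M', Inv ρ M' → dm ρ g 1 M' = 0 → M' ≤ M

/-- **PR** -/
def PrStmt : Prop := ∀ p : Par, All fun _ _ _ ρ => ∀ B fr, Form ρ B → Semi ρ fr →
  Fx ρ Set.univ = ⊥ → ∀ m, Mult ρ p ⊤ m → m 0 ≠ 0 → m 0 + 6 ≤ 6 * m 1

/-- **ENUM** -/
def EnumStmt : Prop := ∀ m : ℕ → ℕ, (∀ r < 64, m (sg r) = m r) → ∀ i < 6,
  (∀ e < 65, SE m 65 e = pat i e) → (m 0 ≠ 0 → m 0 + 6 ≤ 6 * m 1) → Ok63 (SE m 63) →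
  (m 63 = 2 ∧ ∀ r < 63, m r ≠ 0 → dS r ≤ 4) ∨ ∀ e < 63, SE m 63 e = pat3 e

/-- **EDEC** -/
def EdecStmt : Prop := All fun _ _ _ ρ =>
  Eop ρ = NU ρ + ∑ t : F, ρ (uu t * ww F) * NU ρ * ρ (uu t * ww F)⁻¹ ∧
  (∀ g, Commute (ρ g) (Eop ρ)) ∧ (∀ B, Form ρ B → ∀ a b, B (Eop ρ a) b = B a (Eop ρ b)) ∧
  ∀ P, Inv ρ P → ∀ v ∈ P, Eop ρ v ∈
    Submodule.span K {v | ∃ g, ∃ q ∈ P ⊓ Fx ρ (UU F), v = ρ g q}

/-- **EMOD** -/
def EmodStmt : Prop := ∀ p : Par, (∀ r < 64, ∀ f ∈ SP p r, Eop reg f = if r = 63 then f else 0) ∧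
  ∀ f ∈ SP p 63, (∀ t, reg (uu t) f = f) → ∃ c : K, f = c • mono p 63 0

/-- **FIT1** -/
def Fit1Stmt : Prop := All fun _ _ _ ρ => ∀ B, Form ρ B → ∃ W0 P, Inv ρ W0 ∧ Inv ρ P ∧
  IsCompl W0 P ∧ (∀ a ∈ W0, ∀ b ∈ P, B a b = 0) ∧ (∃ n : ℕ, ∀ a ∈ W0, (Eop ρ ^ n) a = 0) ∧
  (∀ b ∈ P, ∃ c ∈ P, Eop ρ c = b) ∧ ∀ b ∈ P, Eop ρ b = 0 → b = 0

/-- **FIT2** -/
def Fit2Stmt : Prop := ∀ p : Par, All fun _ _ _ ρ => ∀ U L, Ser ρ p U L →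
  ((∃ n : ℕ, ∀ a ∈ U, (Eop ρ ^ n) a = 0) → 63 ∉ L) ∧
  ((∀ b ∈ U, Eop ρ b = 0 → b = 0) → ∀ r ∈ L, r = 63)

/-- **FIT3** -/
def Fit3Stmt : Prop := ∀ p : Par, All fun W _ _ ρ => ∀ U L, Ser ρ p U L → (∀ r ∈ L, r = 63) →
  finrank K (U ⊓ Fx ρ (UU F) : Submodule K W) ≤ L.length ∧ U ⊓ Fx ρ (UU F) ≤ Fx ρ (BB F)

/-- **FIT** -/
def FitStmt : Prop := ∀ p : Par, All fun _ _ _ ρ => ∀ B, Form ρ B → ∀ m, Mult ρ p ⊤ m → m 63 = 2 →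
  (∀ r < 63, m r ≠ 0 → dS r ≤ 4) → ∃ W0 P, Dec ρ p B W0 P

/-- **TR3** -/
def Tr3Stmt : Prop :=
  (∀ g : SL, g ∈ BB F ∨ ∃ t, ∃ b ∈ BB F, g = uu t * ww F * b) ∧
  (∀ g g' : SL, g⁻¹ * g' ∉ BB F → ∃ s : SL, s * g ∈ BB F ∧ (ww F)⁻¹ * (s * g') ∈ BB F) ∧
  (∀ g g' g'' : SL, g⁻¹ * g' ∉ BB F → g⁻¹ * g'' ∉ BB F → g'⁻¹ * g'' ∉ BB F → ∃ s : SL,
    s * g ∈ BB F ∧ (ww F)⁻¹ * (s * g') ∈ BB F ∧ (uu 1 * ww F)⁻¹ * (s * g'') ∈ BB F) ∧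
  (∀ s t : F, (uu s * ww F)⁻¹ * (uu t * ww F) ∈ BB F ↔ s = t) ∧ (∀ t : F, uu t * ww F ∉ BB F) ∧
  All fun _ _ _ ρ => ∀ q ∈ Fx ρ (BB F), q + ∑ t : F, ρ (uu t * ww F) q ∈ Fx ρ Set.univ

/-- **TRI** -/
def TriStmt : Prop := All fun W _ _ ρ => ∀ τ : W →ₗ[K] W →ₗ[K] W →ₗ[K] K,
  (∀ g a b c, τ (ρ g a) (ρ g b) (ρ g c) = τ a b c) → (∀ a b, τ a a b = 0) → (∀ a b, τ a b a = 0) →
  Fx ρ Set.univ = ⊥ → ∀ P, Gen2 ρ P → ∀ a ∈ P, ∀ b ∈ P, ∀ c ∈ P, τ a b c = 0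

/-- **BIL** -/
def BilStmt : Prop := ∀ p : Par, All fun W _ _ ρ => ∀ (β : W →ₗ[K] W →ₗ[K] W) (P : Submodule K W),
  (∀ g a b, β (ρ g a) (ρ g b) = ρ g (β a b)) → (∀ a b, β a b ∈ P) →
  (∀ N ≤ P, Inv ρ N → N ≠ ⊥ → 64 ≤ finrank K N) → ∀ U L, Ser ρ p U L → (∀ r ∈ L, dS r ≤ 4) →
  ∀ a ∈ U, ∀ b ∈ U, β a b = 0

/-- **ST** -/
def StStmt : Prop := ∀ (p : Par) (ρ : SL →* Module.End K V), Form ρ kap →
  (∀ g a b, ρ g (br a b) = br (ρ g a) (ρ g b)) → Fx ρ Set.univ = ⊥ → ∀ W0 P, ¬ Dec ρ p kap W0 P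

/-! ### Groups -/

def Emb (H : Subgroup G0) (ψ : SL →* G0) : Prop :=
  Function.Injective ψ ∧ (∀ s, ψ s ∈ H) ∧ (∀ h ∈ H, ∀ s, ∃ s', h * ψ s * h⁻¹ = ψ s') ∧
    ∀ h ∈ H, (∀ s, Commute h (ψ s)) → h = 1

/-- **RED** -/
def RedStmt.{u} : Prop := ∀ (E : Type u) [Field E] [Fintype E], Fintype.card E = 64 →
  ∀ H : Subgroup G0, Nonempty (Cfsg.generalizedFittingSubgroup H ≃* PSL(2, E)) → ∃ ψ, Emb H ψ

/-- **AUTA** -/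
def AutaStmt : Prop := ∀ x : SL, orderOf x = 65 → ∀ g : SL, ∃ k : ℕ, ∃ b ∈ BB F, g = x ^ k * b

/-- **AUTB** -/
def AutbStmt : Prop :=
  (∀ α : MulAut SL, ∃ g : SL, ∀ t, ∃ t', α (uu t) = g * uu t' * g⁻¹) ∧
  ∀ α : MulAut SL, (∀ g t, ∃ t', α (g * uu t * g⁻¹) = g * uu t' * g⁻¹) → α = 1

/-- **CH** -/
def ChStmt : Prop := ∀ H ψ, Emb H ψ → ∀ x : SL, orderOf x = 65 → ∀ g ∈ H, Commute g (ψ x) →
  g ∈ Subgroup.zpowers (ψ x)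

noncomputable def rho (ψ : SL →* G0) : SL →* Module.End K V := act.comp (ι.comp ψ)

/-- **CASEA** -/
def CaseAStmt : Prop := ∀ H ψ, IsCoatom H → Emb H ψ → ∀ x : SL, x ≠ 1 → EndP (ψ x) →
  (∀ g ∈ H, Commute g (ψ x) → g ∈ Subgroup.zpowers (ψ x)) → Fx (rho ψ) Set.univ = ⊥

/-- **CASEB** -/
def CaseBStmt : Prop := ∀ ψ : SL →* G0, Function.Injective ψ → Fx (rho ψ) Set.univ ≠ ⊥

end Cfsg.Agent.H6.E82
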