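import Cfsg.Agent.H63.A8Defs

/-!
# The step `JBStmt`: sections of `π` over the symmetric group
-/

set_option autoImplicit false

namespace Cfsg.Agent.H6.A8Jb

open Cfsg Cfsg.Agent.H63 Cfsg.Agent.H63.SL Cfsg.Agent.H63.A8 Subgroup
open Cfsg.Agent.H8 (IsSylowIn)
open Equiv (swap)
open Equiv.Perm (sign)
open scoped Pointwise

universe u

variable {G : Type u} [Group G] {ι : Alt →* G} {π : G → S8} {t : G}

theorem sg01 : sign (swap (0 : Fin 8) 1) = -1 := Equiv.Perm.sign_swap (by decide)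

theorem odd_of {p : S8} (h : sign p ≠ 1) : sign p = -1 := (Int.units_eq_one_or _).resolve_left h

theorem mem_of_odd {p : S8} (h : sign p ≠ 1) : p * swap 0 1 ∈ alternatingGroup (Fin 8) := by
  rw [Equiv.Perm.mem_alternatingGroup, map_mul, odd_of h, sg01]; rfl

/-- The underlying map of the section. -/
noncomputable def jf (ι : Alt →* G) (τ : G) (p : S8) : G :=
  if h : sign p = 1 then ι ⟨p, h⟩ else ι ⟨p * swap 0 1, mem_of_odd h⟩ * τ

theorem jf_even (τ : G) (a : Alt) : jf ι τ a.1 = ι a := dif_pos a.2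

theorem jf_odd (τ : G) (a : Alt) : jf ι τ (a.1 * swap 0 1) = ι a * τ := by
  have h : sign (a.1 * swap 0 1) ≠ 1 := by
    rw [map_mul, Equiv.Perm.mem_alternatingGroup.1 a.2, sg01]; decide
  rw [jf, dif_neg h]
  congr 2
  exact Subtype.ext (by simp [mul_assoc])

theorem cases (p : S8) : ∃ a : Alt, p = a.1 ∨ p = a.1 * swap 0 1 := by
  by_cases h : sign p = 1
  · exact ⟨⟨p, h⟩, Or.inl rfl⟩
  · exact ⟨⟨p * swap 0 1, mem_of_odd h⟩, Or.inr (by simp [mul_assoc])⟩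

theorem syl [Finite G] (h : Hy ι π t) (k : Kit ι π t) {j : S8 →* G} (com : ∀ p, Commute (j p) t)
    (sec : ∀ p, π (j p) = p) (E : Subgroup S8) (P : Subgroup G) (hE : IsPGroup 2 E)
    (hP : IsPGroup 2 P) (hPt : P ≤ C1[t]) (hPE : ∀ g ∈ P, π g ∈ E) :
    ∃ o, Commute o t ∧ π o = 1 ∧
      ∀ g ∈ P, o * g * o⁻¹ = j (π g) ∨ o * g * o⁻¹ = t * j (π g) := by
  have : Fact (Nat.Prime 2) := ⟨Nat.prime_two⟩
  let H : Subgroup G :=
    { carrier := {g | Commute g t ∧ π g ∈ E}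
      one_mem' := ⟨Commute.one_left t, k.one ▸ one_mem E⟩
      mul_mem' := fun {a b} ha hb => ⟨ha.1.mul_left hb.1, h.mul a b ha.1 hb.1 ▸ mul_mem ha.2 hb.2⟩
      inv_mem' := fun {a} ha => ⟨ha.1.inv_left, k.inv a ha.1 ▸ inv_mem ha.2⟩ }
  have h1 : E.map j ≤ H := by
    rintro _ ⟨p, hp, rfl⟩
    exact ⟨com p, (sec p).symm ▸ hp⟩
  obtain ⟨S, hS, hle⟩ := H8.exists_isSylowIn_ge (hE.map j) h1
  obtain ⟨m, hm, e⟩ := hS.exists_conj_le hP fun g hg =>
    (⟨mem_centralizer_singleton_iff.1 (hPt hg), hPE g hg⟩ : g ∈ H)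
  have c1 : Commute ((j (π m))⁻¹ * m) t := (com _).inv_left.mul_left hm.1
  have c2 : π ((j (π m))⁻¹ * m) = 1 := by
    rw [h.mul _ _ (com _).inv_left hm.1, k.inv _ (com _), sec, inv_mul_cancel]
  have c3 : j (π m) ∈ S := hle ⟨_, hm.2, rfl⟩
  have c4 : ∀ g ∈ P, (j (π m))⁻¹ * m * g * ((j (π m))⁻¹ * m)⁻¹ ∈ S := fun g hg => by
    have := mul_mem (mul_mem (inv_mem c3) (e (H8.conj_mem_conj_smul.2 hg))) c3
    convert this using 1
    group
  generalize (j (π m))⁻¹ * m = o at c1 c2 c4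
  refine ⟨o, c1, c2, fun g hg => ?_⟩
  have g1 : Commute g t := mem_centralizer_singleton_iff.1 (hPt hg)
  have g2 : Commute (o * g * o⁻¹) t := (c1.mul_left g1).mul_left c1.inv_left
  have g3 : π (o * g * o⁻¹ * (j (π g))⁻¹) = 1 := by
    rw [h.mul _ _ g2 (com _).inv_left, h.mul _ _ (c1.mul_left g1) c1.inv_left, h.mul _ _ c1 g1,
      k.inv _ c1, k.inv _ (com _), c2, sec]
    simp
  have g4 : o * g * o⁻¹ * (j (π g))⁻¹ ∈ S := mul_mem (c4 g hg) (inv_mem (hle ⟨_, hPE g hg, rfl⟩))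
  rcases h.r2 _ (g2.mul_left (com _).inv_left) g3 (H27.End.is2_of_mem hS.isPGroup g4) with e | e
  · exact Or.inl (mul_inv_eq_one.1 e)
  · exact Or.inr (mul_inv_eq_iff_eq_mul.1 e)

theorem mk [Finite G] (h : Hy ι π t) (k : Kit ι π t) {τ : G} (h1 : Commute τ t) (h2 : τ * τ = 1)
    (h3 : π τ = swap 0 1) :
    ∃ j : S8 →* G, Hj ι π t j ∧ ∀ a : Alt, j (a.1 * swap 0 1) = ι a * τ := by
  have ti : τ⁻¹ = τ := inv_eq_of_mul_eq_one_right h2
  have act : ∀ a, τ * ι a = ι (cA (swap 0 1) a) * τ := fun a => by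
    rw [← h3, ← h.act τ h1, inv_mul_cancel_right]
  have mul : ∀ p q, jf ι τ (p * q) = jf ι τ p * jf ι τ q := fun p q => by
    obtain ⟨a, rfl | rfl⟩ := cases p <;> obtain ⟨b, rfl | rfl⟩ := cases q
    · rw [← coe_mul, jf_even, jf_even, jf_even, map_mul]
    · rw [← mul_assoc, ← coe_mul, jf_odd, jf_even, jf_odd, map_mul, mul_assoc]
    · have : a.1 * swap 0 1 * b.1 = (a * cA (swap 0 1) b).1 * swap 0 1 := by
        simp [cA, mul_assoc]
      rw [this, jf_odd, jf_odd, jf_even, map_mul, mul_assoc, mul_assoc, act]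
    · have : a.1 * swap 0 1 * (b.1 * swap 0 1) = (a * cA (swap 0 1) b).1 := by
        simp [cA, mul_assoc]
      rw [this, jf_even, jf_odd, jf_odd, map_mul, mul_assoc, ← mul_assoc τ, act, mul_assoc, h2,
        mul_one]
  have com : ∀ p, Commute (MonoidHom.mk' (jf ι τ) mul p) t := fun p => by
    change Commute (jf ι τ p) t
    obtain ⟨a, rfl | rfl⟩ := cases p
    · rw [jf_even]; exact h.tc a
    · rw [jf_odd]; exact (h.tc a).mul_left h1
  have sec : ∀ p, π (MonoidHom.mk' (jf ι τ) mul p) = p := fun p => by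
    change π (jf ι τ p) = p
    obtain ⟨a, rfl | rfl⟩ := cases p
    · rw [jf_even, h.sec]
    · rw [jf_odd, h.mul _ _ (h.tc a) h1, h.sec, h3]
  exact ⟨MonoidHom.mk' (jf ι τ) mul, ⟨jf_even τ, com, sec, syl h k com sec⟩, jf_odd τ⟩

theorem e1 : sign w.1 ≠ -1 ∧ sign z.1 ≠ -1 := by
  rw [Equiv.Perm.mem_alternatingGroup.1 w.2, Equiv.Perm.mem_alternatingGroup.1 z.2]; decide

theorem e2 : cA (w.1 * swap 4 5) (ev 2 3 4 5) * ev 2 3 4 5 = 1 ∧
    w.1 * swap 4 5 * (ev 2 3 4 5).1 = swap 0 1 := by decide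

/-- **JB** -/
theorem jb : JBStmt.{u} := by
  intro f G _ _ ι π t h k
  refine ⟨?_, fun j hj => ?_⟩
  · rintro ⟨d, d1, d2, d3⟩
    obtain ⟨a, ha⟩ := f.inv (π d) (by rw [← h.mul d d d1 d1, d2, k.one])
    have c1 : Commute (ι a * d * (ι a)⁻¹) t := ((h.tc a).mul_left d1).mul_left (h.tc a).inv_left
    have c2 : ι a * d * (ι a)⁻¹ * (ι a * d * (ι a)⁻¹) = 1 := by
      rw [conj_mul, d2, mul_one, mul_inv_cancel]
    have c3 : π (ι a * d * (ι a)⁻¹) = a.1 * π d * a.1⁻¹ := by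
      rw [h.mul _ _ ((h.tc a).mul_left d1) (h.tc a).inv_left, h.mul _ _ (h.tc a) d1,
        k.inv _ (h.tc a), h.sec]
    have c4 : sign (a.1 * π d * a.1⁻¹) = -1 := by simp [d3]
    rw [← c3] at ha c4
    generalize ι a * d * (ι a)⁻¹ = τ at ha c1 c2 c4
    rcases ha with e | e | e | e | e
    · rw [e, map_one] at d3
      exact absurd d3 (by decide)
    · exact (mk h k c1 c2 e).imp fun _ x => x.1
    · exact absurd (e ▸ c4) e1.1
    · refine (mk h k (τ := τ * ι (ev 2 3 4 5)) (c1.mul_left (h.tc _)) ?_ ?_).imp fun _ x => x.1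
      · have := h.act τ c1 (ev 2 3 4 5)
        rw [inv_eq_of_mul_eq_one_right c2, e] at this
        rw [← mul_assoc, this, ← map_mul, e2.1, map_one]
      · rw [h.mul _ _ c1 (h.tc _), h.sec, e, e2.2]
    · exact absurd (e ▸ c4) e1.2
  · have c1 := hj.com (swap 0 1)
    obtain ⟨j', h1, h2⟩ := mk h k (τ := t * j (swap 0 1)) ((Commute.refl t).mul_left c1)
      (by rw [mul_assoc, ← mul_assoc (j _), c1.eq, mul_assoc, ← map_mul, Equiv.swap_mul_self,
        map_one, mul_one, h.t2])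
      (by rw [h.mul _ _ (Commute.refl t) c1, k.pt, hj.sec, one_mul])
    refine ⟨j', h1, fun p hp => ?_⟩
    obtain ⟨a, rfl | rfl⟩ := cases p
    · rw [Equiv.Perm.mem_alternatingGroup.1 a.2] at hp
      exact absurd hp (by decide)
    · rw [h2, map_mul, hj.ext, ← mul_assoc, ← mul_assoc, (h.tc a).eq]

end Cfsg.Agent.H6.A8Jb
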