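import Cfsg.Agent.H96.D4S

/-!
Project CKS, piece D4V: the linear algebra.
-/

set_option autoImplicit false

namespace Cfsg.Agent.H6.CksD4

open Cfsg.Agent.H96.DF Module

universe u

theorem card_le_mul {G H : Type*} [AddGroup G] [AddGroup H] [Finite G] [Finite H] (f : G →+ H)
    (S T : AddSubgroup G) (M : AddSubgroup H) (hM : ∀ v ∈ S, f v ∈ M)
    (hT : ∀ v ∈ S, f v = 0 → v ∈ T) : Nat.card S ≤ Nat.card T * Nat.card M := by
  rw [← (f.comp S.subtype).ker.card_mul_index, AddSubgroup.index_ker]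
  refine Nat.mul_le_mul ?_ (AddSubgroup.card_le_of_le ?_)
  · exact Nat.card_le_card_of_injective (fun v => (⟨v.1.1, hT _ v.1.2 v.2⟩ : T))
      fun v w h => Subtype.ext (Subtype.ext (congrArg (fun z : T => (z : G)) h))
  · rintro _ ⟨v, rfl⟩
    exact hM _ v.2

theorem card_ne_zero {G : Type*} [AddGroup G] [Finite G] (S : AddSubgroup G) :
    Nat.card {v // v ∈ S ∧ v ≠ 0} + 1 = Nat.card S :=
  Set.ncard_sdiff_singleton_add_one (s := (S : Set G)) S.zero_mem

/-- A subgroup of the plane that meets all lines in the same way. -/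
theorem lines {F : Type*} [Field F] [Finite F] (A : AddSubgroup (F × F))
    (h : ∀ l : F, ∃ c : F, c ≠ 0 ∧ ∀ a, (a, l * a) ∈ A ↔ ((0 : F), c * a) ∈ A) :
    (∀ z, ((0 : F), z) ∈ A) ∨ A = ⊥ := by
  classical
  let M : AddSubgroup F := A.comap (AddMonoidHom.inr F F)
  choose c hc h using h
  let e : {v // v ∈ M ∧ v ≠ 0} ⊕ F × {v // v ∈ M ∧ v ≠ 0} → {v // v ∈ A ∧ v ≠ 0} :=
    Sum.elim (fun z => ⟨(0, z.1), z.2.1, fun h0 => z.2.2 (congrArg Prod.snd h0)⟩)
      fun p => ⟨((c p.1)⁻¹ * p.2.1, p.1 * ((c p.1)⁻¹ * p.2.1)),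
        (h _ _).2 (by rw [mul_inv_cancel_left₀ (hc _)]; exact p.2.2.1),
        fun h0 => mul_ne_zero (inv_ne_zero (hc _)) p.2.2.2 (congrArg Prod.fst h0)⟩
  have he : Function.Bijective e := by
    constructor
    · rintro (z | p) (z' | p') hh <;> have h1 := congrArg (fun v => v.1.1) hh <;>
        have h2 := congrArg (fun v => v.1.2) hh
      · exact congrArg _ (Subtype.ext h2)
      · exact absurd h1.symm (mul_ne_zero (inv_ne_zero (hc _)) p'.2.2.2)
      · exact absurd h1 (mul_ne_zero (inv_ne_zero (hc _)) p.2.2.2)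
      · change (c p.1)⁻¹ * p.2.1 = (c p'.1)⁻¹ * p'.2.1 at h1
        change p.1 * ((c p.1)⁻¹ * p.2.1) = p'.1 * ((c p'.1)⁻¹ * p'.2.1) at h2
        rw [h1] at h2
        have h3 := mul_right_cancel₀ (mul_ne_zero (inv_ne_zero (hc _)) p'.2.2.2) h2
        rw [h3] at h1
        exact congrArg _ (Prod.ext h3 (Subtype.ext (mul_left_cancel₀ (inv_ne_zero (hc _)) h1)))
    · rintro ⟨⟨a, z⟩, hv, h0⟩
      by_cases ha : a = 0
      · subst ha
        exact ⟨Sum.inl ⟨z, hv, fun hz => h0 (by rw [hz]; rfl)⟩, rfl⟩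
      · have h1 : z / a * a = z := div_mul_cancel₀ z ha
        refine ⟨Sum.inr ⟨z / a, c (z / a) * a, (h _ _).1 (h1.symm ▸ hv), mul_ne_zero (hc _) ha⟩,
          Subtype.ext ?_⟩
        change ((c (z / a))⁻¹ * (c (z / a) * a), z / a * ((c (z / a))⁻¹ * (c (z / a) * a))) = (a, z)
        rw [inv_mul_cancel_left₀ (hc _), h1]
  have h1 := Nat.card_eq_of_bijective e he
  have h2 := card_ne_zero A
  have h3 := card_ne_zero M
  rw [Nat.card_sum, Nat.card_prod] at h1
  obtain ⟨k, hk⟩ := M.card_addSubgroup_dvd_card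
  have h4 := A.card_addSubgroup_dvd_card
  rw [Nat.card_prod] at h4
  generalize Nat.card {v // v ∈ M ∧ v ≠ 0} = m at h1 h3
  by_cases hk1 : k = 1
  · left
    rw [hk1, mul_one] at hk
    intro z
    exact (AddSubgroup.eq_top_of_card_eq M hk.symm ▸ AddSubgroup.mem_top z : z ∈ M)
  right
  have h5 : Nat.card A = Nat.card M * (1 + k * m) := by rw [← h2, ← h1, hk, ← h3]; ring
  have := Fintype.ofFinite F
  obtain ⟨p, _, n, hp, hn⟩ := FiniteField.card' F
  rw [← Nat.card_eq_fintype_card] at hn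
  obtain ⟨i, -, hi⟩ := (Nat.dvd_prime_pow hp).1 (hn ▸ hk ▸ Dvd.intro_left _ rfl : k ∣ p ^ (n : ℕ))
  obtain ⟨j, -, hj⟩ := (Nat.dvd_prime_pow hp).1
    (show 1 + k * m ∣ p ^ ((n : ℕ) + n) by
      rw [pow_add, ← hn]; exact (Dvd.intro_left _ h5.symm).trans h4)
  have hpk : p ∣ k := hi ▸ dvd_pow_self p fun h0 => hk1 (by rw [hi, h0, pow_zero])
  have hj0 : j = 0 := by
    by_contra h0
    exact hp.one_lt.ne' (Nat.dvd_one.1 ((Nat.dvd_add_left (hpk.mul_right m)).1
      (hj ▸ dvd_pow_self p h0)))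
  rw [hj0, pow_zero] at hj
  have hk0 : k ≠ 0 := hi ▸ pow_ne_zero _ hp.ne_zero
  have hm : m = 0 := (mul_eq_zero.1 (by omega : k * m = 0)).resolve_left hk0
  rw [← AddSubgroup.card_eq_one, ← h2, ← h1, hm]
  rfl

variable {F K : Type u} [Field F] [Field K] [Algebra F K] [Finite K] (C : Tri F K)

/-- The commutator form as a bilinear form. -/
def omB : LinearMap.BilinForm F (V F K) :=
  LinearMap.mk₂ F (om C) (fun _ _ _ => by simp [om, add_mul]; ring)
    (fun _ _ _ => by simp [om]; ring) (fun _ _ _ => by simp [om, mul_add]; ring)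
    (fun _ _ _ => by simp [om]; ring)

theorem omB_ker : LinearMap.ker (omB C) = ⊥ := by
  refine LinearMap.ker_eq_bot'.2 fun ⟨a, x, y, u⟩ h => ?_
  have h1 : ∀ w, om C (a, x, y, u) w = 0 := fun w => LinearMap.congr_fun h w
  have ha : a = 0 := by simpa [om] using h1 (0, 0, 0, 1)
  have hu : u = 0 := by simpa [om] using h1 (1, 0, 0, 0)
  have hx : x = 0 := C.T_nd fun b => by simpa [om] using h1 (0, 0, b, 0)
  have hy : y = 0 := C.T_nd fun b => by simpa [om] using h1 (0, b, 0, 0)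
  rw [ha, hu, hx, hy]; rfl

theorem card_iso (R : AddSubgroup (V F K)) (h : ∀ v ∈ R, ∀ w ∈ R, om C v w = 0) :
    Nat.card R ≤ Nat.card F ^ 4 := by
  have : Finite F := Finite.of_injective _ (algebraMap F K).injective
  have : Module.Finite F K := Module.Finite.of_finite
  let S := Submodule.span F (R : Set (V F K))
  have h1 : S ≤ (omB C).orthogonal S := by
    refine Submodule.span_le.2 fun w hw v hv => ?_
    have : S ≤ LinearMap.ker ((omB C).flip w) := Submodule.span_le.2 fun v hv => h v hv w hw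
    exact this hv
  have h2 := (omB C).finrank_add_finrank_orthogonal' S
  rw [show (omB C).ker = ⊥ from omB_ker C, inf_bot_eq, finrank_bot] at h2
  have h3 := Submodule.finrank_mono h1
  have h4 : finrank F (V F K) = 8 := by simp [V, finrank_prod, C.finrank]
  calc Nat.card R ≤ Nat.card S :=
        Nat.card_le_card_of_injective _ (Set.inclusion_injective Submodule.subset_span)
    _ = Nat.card F ^ finrank F S := Module.natCard_eq_pow_finrank
    _ ≤ _ := Nat.pow_le_pow_right Nat.card_pos (by omega)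

theorem eq_zero_of_rho {v : V F K} (hu : v.2.2.2 = 0) (h : ∀ t, (ρ C t v).1 = 0) : v = 0 := by
  obtain ⟨a, x, y, u⟩ := v
  obtain rfl : u = 0 := hu
  simp only [ρ_apply, rmap, mul_zero, add_zero] at h
  have ha : a = 0 := by simpa using h 0
  have h1 : ∀ t, C.cr t y = 0 := fun t => C.T_nd fun s => by
    have e := h (s + t)
    rw [C.sh_add, add_mul, add_mul, add_mul, map_add, map_add, map_add] at e
    rw [mul_comm, C.T_cr]
    linear_combination e - h s - h t + ha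
  have hy : y = 0 := by
    by_contra hy
    obtain ⟨b, hb⟩ := C.exists_not_fix
    obtain ⟨c, hc, -⟩ := C.cr_eq_zero hy ((C.cr_comm _ _).trans (h1 (b * y)))
    rw [Algebra.smul_def] at hc
    rw [mul_right_cancel₀ hy hc, AlgEquiv.commutes] at hb
    exact hb rfl
  have hx : x = 0 := C.T_nd fun b => by simpa [ha, hy, mul_comm] using h b
  rw [ha, hx, hy]; rfl

omit [Finite K] in
theorem eq_zero_of_two (h2 : (2 : F) ≠ 0) {w : V F K} {s s' : K} (hs : s ≠ s')
    (h : (ρ C s w).1 = 0 ∧ (ρ C s w).2.1 = 0) (h' : (ρ C s' w).1 = 0 ∧ (ρ C s' w).2.1 = 0) :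
    w = 0 := by
  have e : ρ C s' w = ρ C (s' - s) (ρ C s w) := by
    rw [← LinearEquiv.mul_apply, ← ρ_add, sub_add_cancel]
  rw [e] at h'
  rw [← (ρ C s).map_eq_zero_iff]
  generalize ρ C s w = v at h h'
  have hd : s' - s ≠ 0 := sub_ne_zero.2 hs.symm
  generalize s' - s = d at h' hd
  obtain ⟨a, x, y, u⟩ := v
  obtain ⟨rfl, rfl⟩ : a = 0 ∧ x = 0 := h
  simp only [ρ_apply, rmap, mul_zero, map_zero, zero_add] at h'
  have h1 := congrArg (fun z => C.T (d * z)) h'.2
  simp only [mul_add, map_add, mul_smul_comm, map_smul, C.T_mul_sh, C.T_cr, C.cr_self, mul_zero,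
    map_zero, smul_eq_mul] at h1
  have h3 : C.T (2 * C.sh d * y) = 2 * C.T (C.sh d * y) := by
    rw [mul_assoc, two_mul, map_add, two_mul]
  have hu : u = 0 := by
    have : C.N d * u = 0 := by linear_combination h1 - h3 - 2 * h'.1
    exact (mul_eq_zero.1 this).resolve_left (by simpa using hd)
  rw [hu, zero_smul, add_zero] at h'
  rw [hu, C.cr_eq_zero_odd h2 hd h'.2]; rfl

/-- The subgroup of vectors with `u = 0`. -/
def J0 : AddSubgroup (V F K) where
  carrier := {v | v.2.2.2 = 0}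
  zero_mem' := rfl
  add_mem' := fun {v w} (h : v.2.2.2 = 0) (e : w.2.2.2 = 0) => show (v + w).2.2.2 = 0 by simp [h, e]
  neg_mem' := fun {v} (h : v.2.2.2 = 0) => show (-v).2.2.2 = 0 by simp [h]

/-- The subgroup of vectors with `y = u = 0`. -/
def Y0 : AddSubgroup (V F K) where
  carrier := {v | v.2.2.1 = 0 ∧ v.2.2.2 = 0}
  zero_mem' := ⟨rfl, rfl⟩
  add_mem' := fun {v w} ⟨_, _⟩ ⟨_, _⟩ => by simp [*]
  neg_mem' := fun {v} ⟨_, _⟩ => by simp [*]

theorem module (R : AddSubgroup (V F K)) (h1 : ∀ v ∈ R, ∀ w ∈ R, om C v w = 0)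
    (h4 : ∀ s : K, ∃ t c, ∀ v ∈ R, ρ C t (torV C c (wV (ρ C s v))) ∈ R)
    (h5 : (2 : F) = 0 → ∀ v ∈ R, qf C v = 0) {t : K} (ht : t ≠ 0) (h3 : ∀ v ∈ R, ρ C t v ∈ R) :
    R = ⊥ := by
  have : Finite F := Finite.of_injective _ (algebraMap F K).injective
  by_contra hR
  have hN : C.N t ≠ 0 := by simpa using ht
  obtain ⟨v, hv, hu⟩ : ∃ v ∈ R, v.2.2.2 ≠ 0 := by
    by_contra! hc
    refine hR (eq_bot_iff.2 fun v hv => eq_zero_of_rho C (hc v hv) fun s => ?_)
    obtain ⟨t, c, h⟩ := h4 s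
    simpa [ρ_apply (C := C) t, rmap, torV_apply, vmap, wV_apply] using hc _ (h v hv)
  let f : V F K →+ V F K := (ρ C t).toLinearMap.toAddMonoidHom - AddMonoidHom.id _
  have hf : ∀ v, f v = (C.T (t * v.2.1) + C.T (C.sh t * v.2.2.1) + C.N t * v.2.2.2,
      C.cr t v.2.2.1 + v.2.2.2 • C.sh t, v.2.2.2 • t, 0) := fun v => by
    change rmap C t v - v = _
    simp only [rmap]
    ext <;> simp <;> ring
  have hfR : ∀ v ∈ R, f v ∈ R := fun v hv => R.sub_mem (h3 v hv) hv
  by_cases h2 : (2 : F) = 0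
  · have h := h5 h2 _ (hfR v hv)
    rw [hf] at h
    have e : qf C (C.T (t * v.2.1) + C.T (C.sh t * v.2.2.1) + C.N t * v.2.2.2,
        C.cr t v.2.2.1 + v.2.2.2 • C.sh t, v.2.2.2 • t, 0) =
        -(2 * v.2.2.2 * C.T (C.sh t * v.2.2.1) + 3 * v.2.2.2 ^ 2 * C.N t) := by
      apply Tri.inj (K := K)
      simp only [qf]
      d4n
      ring
    rw [e] at h
    exact mul_ne_zero (pow_ne_zero 2 hu) hN (by
      linear_combination -h - (v.2.2.2 * C.T (C.sh t * v.2.2.1) + v.2.2.2 ^ 2 * C.N t) * h2)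
  have k1 : Nat.card R ≤ Nat.card ↥(R ⊓ J0) * Nat.card F := by
    have := card_le_mul ((AddMonoidHom.snd K F).comp ((AddMonoidHom.snd K _).comp
      (AddMonoidHom.snd F _))) R (R ⊓ J0) ⊤ (fun _ _ => trivial) fun v hv h => ⟨hv, h⟩
    rwa [AddSubgroup.card_top] at this
  have k2 : Nat.card ↥(R ⊓ J0) ≤ Nat.card ↥(R ⊓ Y0) * Nat.card ↥(R ⊓ Y0) := by
    refine card_le_mul f _ _ _ (fun w hw => ⟨hfR w hw.1, ?_⟩) fun w hw h => ⟨hw.1, ?_, hw.2⟩
    · rw [hf, show w.2.2.2 = 0 from hw.2]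
      exact ⟨zero_smul _ _, rfl⟩
    · rw [hf, show w.2.2.2 = 0 from hw.2] at h
      exact C.cr_eq_zero_odd h2 ht (by simpa using congrArg (fun z => z.2.1) h)
  have k3 : 0 < Nat.card {w // w ∈ R ⊓ Y0 ∧ w ≠ 0} := by
    refine Nat.card_pos_iff.2 ⟨⟨f (f v), ⟨hfR _ (hfR v hv), ?_⟩, fun h => ?_⟩, inferInstance⟩
    · rw [hf (f v), hf v]
      exact ⟨zero_smul _ _, rfl⟩
    · rw [hf (f v), hf v] at h
      have e := congrArg (fun z => z.2.1) h
      simp only [zero_smul, add_zero, Prod.snd_zero, Prod.fst_zero] at e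
      obtain ⟨c, hc, h0⟩ := C.cr_eq_zero ht e
      rw [(mul_eq_zero.1 h0).resolve_left h2, zero_smul] at hc
      exact smul_ne_zero hu ht hc
  choose t' c h4 using h4
  let g : K → V F K ≃ₗ[F] V F K := fun s => ρ C (t' s) * torV C (c s) * wV * ρ C s
  have hg : ∀ s, ∀ w ∈ R, (g s).symm w ∈ R := fun s w hw => by
    obtain ⟨w', hw', rfl⟩ := (((R : Set (V F K)).toFinite.injOn_iff_bijOn_of_mapsTo
      (f := g s) (h4 s)).1 (g s).injective.injOn).surjOn hw
    rwa [LinearEquiv.symm_apply_apply]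
  have hY : ∀ s w, g s w ∈ Y0 → (ρ C s w).1 = 0 ∧ (ρ C s w).2.1 = 0 := fun s w h => by
    change ρ C (t' s) (torV C (c s) (wV (ρ C s w))) ∈ Y0 at h
    generalize ρ C s w = w' at h ⊢
    obtain ⟨e1, e2⟩ := h
    have e3 : w'.1 = 0 := by simpa [ρ_apply, rmap, torV_apply, vmap, wV_apply] using e2
    exact ⟨e3, by simpa [ρ_apply, rmap, torV_apply, vmap, wV_apply, e3] using e1⟩
  have k4 : Nat.card (K × {w // w ∈ R ⊓ Y0 ∧ w ≠ 0}) ≤ Nat.card {w // w ∈ R ∧ w ≠ 0} := by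
    refine Nat.card_le_card_of_injective (fun p => ⟨(g p.1).symm p.2.1, hg _ _ p.2.2.1.1,
      fun h => p.2.2.2 ((g p.1).symm.map_eq_zero_iff.1 h)⟩) ?_
    rintro ⟨s, w⟩ ⟨s', w'⟩ h
    have e : (g s).symm w.1 = (g s').symm w'.1 := congrArg Subtype.val h
    obtain rfl : s = s' := by
      by_contra hs
      refine w.2.2 ((g s).symm.map_eq_zero_iff.1 (eq_zero_of_two C h2 hs (hY _ _ ?_) (hY _ _ ?_)))
      · rw [LinearEquiv.apply_symm_apply]; exact w.2.1.2
      · rw [e, LinearEquiv.apply_symm_apply]; exact w'.2.1.2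
    rw [Subtype.ext ((g s).symm.injective e)]
  have k5 := card_iso C R h1
  rw [Nat.card_prod, C.card] at k4
  rw [← card_ne_zero (R ⊓ Y0)] at k2
  rw [← card_ne_zero R] at k1 k5
  have hr : 1 < Nat.card F := Finite.one_lt_card
  generalize Nat.card F = r at *
  generalize Nat.card {w // w ∈ R ⊓ Y0 ∧ w ≠ 0} = m at *
  generalize Nat.card {w // w ∈ R ∧ w ≠ 0} = n at *
  generalize Nat.card ↥(R ⊓ J0) = j at *
  have k6 : m < r := by
    by_contra hc
    have : r ^ 4 ≤ r ^ 3 * m := (pow_succ r 3).le.trans (Nat.mul_le_mul_left _ (by omega))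
    omega
  have k7 : j * r ≤ (m + 1) * r * r := Nat.mul_le_mul_right _
    (k2.trans (Nat.mul_le_mul_left _ k6))
  have k8 : (m + 1) * r * r ≤ r ^ 3 * m := by
    have : m + 1 ≤ r * m := by nlinarith
    calc (m + 1) * r * r ≤ r * m * r * r := by gcongr
      _ = _ := by ring
  omega

end Cfsg.Agent.H6.CksD4
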