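import Mathlib
import Cfsg.Agent.H6.E82Asm
import Cfsg.Agent.H6.E82Enum
import Cfsg.Agent.H6.E82Mu
import Cfsg.Agent.H10.E82Twa
import Cfsg.Agent.H10.E82Z1
import Cfsg.Agent.H12.E82Der1
import Cfsg.Agent.H12.E82Pr1
import Cfsg.Agent.H15.E82Edec
import Cfsg.Agent.H15.E82Mono
import Cfsg.Agent.H16.E82Xact
import Cfsg.Agent.H2.E82Ch
import Cfsg.Agent.H20.E82Uni
import Cfsg.Agent.H24.E82Nact
import Cfsg.Agent.H27.E82Mona
import Cfsg.Agent.H31.E82Gwa
import Cfsg.Agent.H32.E82Brb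
import Cfsg.Agent.H32.E82T63
import Cfsg.Agent.H34.E82End
import Cfsg.Agent.H34.E82Par
import Cfsg.Agent.H36.E82F4
import Cfsg.Agent.H37.E82Bil
import Cfsg.Agent.H37.E82Ser
import Cfsg.Agent.H43.E82AutB
import Cfsg.Agent.H43.E82Coc
import Cfsg.Agent.H44.E82Fit2
import Cfsg.Agent.H44.E82Perp
import Cfsg.Agent.H47.E82CaseB
import Cfsg.Agent.H47.E82R3b
import Cfsg.Agent.H5.E82Conj
import Cfsg.Agent.H5.E82DatA
import Cfsg.Agent.H50.E82Emod
import Cfsg.Agent.H51.E82Pr
import Cfsg.Agent.H52.E82Brg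
import Cfsg.Agent.H56.E82Auta
import Cfsg.Agent.H56.E82Vg
import Cfsg.Agent.H56.E82X2
import Cfsg.Agent.H59.E82Solv
import Cfsg.Agent.H60.E82L65a
import Cfsg.Agent.H61.E82Der2
import Cfsg.Agent.H62.E82Cocu
import Cfsg.Agent.H62.E82L65
import Cfsg.Agent.H64.E82Frame
import Cfsg.Agent.H65.E82Red
import Cfsg.Agent.H65.E82Tr3
import Cfsg.Agent.H68.E82Eigt
import Cfsg.Agent.H68.E82Z7
import Cfsg.Agent.H70.E82CaseA
import Cfsg.Agent.H70.E82L65b
import Cfsg.Agent.H71.E82Stab
import Cfsg.Agent.H72.E82Fit3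
import Cfsg.Agent.H72.E82Twb
import Cfsg.Agent.H76.E82Fit1
import Cfsg.Agent.H76.E82Jac
import Cfsg.Agent.H80.E82Datb
import Cfsg.Agent.H80.E82Eigx
import Cfsg.Agent.H81.E82Tri
import Cfsg.Agent.H86.E82Mult
import Cfsg.Agent.H88.E82Jac1
import Cfsg.Agent.H9.E82Der
import Cfsg.Agent.H90.E82Zz
import Cfsg.Agent.H91.E82Brc
import Cfsg.Agent.H94.E82Tau

/-! All pieces but three put together. -/

set_option autoImplicit false

namespace Cfsg.Agent.H6.E82

open Cfsg.Agent
open scoped MatrixGroups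

universe u

theorem all_of (rf : RfStmt) (r3a : R3aStmt) (fr : FrStmt)
    (E : Type u) [Field E] [Fintype E] (hE : Fintype.card E = 64) (H : Subgroup G0)
    (hH : Nonempty (Cfsg.generalizedFittingSubgroup H ≃* PSL(2, E))) : ¬ IsCoatom H := by
  have brb := H32.E82Brb.brb rf
  have brc := H91.E82Brc.brc rf
  have xact := H16.E82Xact.xact rf brb brc
  have jac := H76.E82Jac.jac rf brb brc (H88.E82Jac1.jac1 rf brb brc)
  have tau := H94.E82Tau.tau rf brb brc
  have brg := H52.E82Brg.brg brb brc xact jac (H56.E82X2.x2 rf brb brc) tau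
  have der := H9.E82Der.der rf brb brc jac (H12.E82Der1.der1 rf brb) (H61.E82Der2.der2 rf brb brc)
  have vg := H56.E82Vg.vg rf brb brc xact
  have mu := Mu.muStmt
  have frame := H64.E82Frame.frame
  have nact := H24.E82N.nact
  have da := H5.E82DatA.datA
  have db := H80.E82Datb.datb
  have l65 := H62.E82L65.l65 Mu.ss H60.E82L65a.l65a H70.E82L65b.l65b
  have t63 := H32.E82T63.t63 H68.E82Z7.z7 H68.E82Z7.z9 r3a H47.E82R3b.r3b
  have stab := H71.E82Stab.stab rf brc H36.E82F4.f4 (H31.E82Gwa.gwa rf brb brc xact)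
  have par := H34.E82Par.par
  have mono := H15.E82Mono.mono_stmt
  have mona := H27.E82Mona.mona
  have ser := H37.E82Ser.ser
  have uni := H20.E82Uni.uni
  have mult := H86.E82Mult.mult par mono (H80.E82Eigx.eigx par) (H68.E82Eigt.eigt par mono mona)
  have coc := H43.E82Coc.coc par mono mona (H62.E82Cocu.cocu mono mona)
  have zz := H90.E82Zz.zz par mult ser (H10.E82Z1.z1 coc)
  have pr := H51.E82Pr.pr ser mult zz (H44.E82Perp.perp par uni) fr H12.E82Pr1.pr1
  have edec := H15.E82Edec.edec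
  have emod := H50.E82Emod.emod mono mona edec
  have fit := H37.E82Bil.fit ser mult uni edec (H76.E82Fit1.fit1 edec) (H44.E82Fit2.fit2 mono emod)
    (H72.E82Fit3.fit3 mona emod)
  have st := H37.E82Bil.st brb tau der (H81.E82Tri.tri H65.E82Tr3.tr3) (H37.E82Bil.bil mono)
  exact final H65.E82Red.red par (H2E82Ch.ch H56.E82Auta.auta H43.E82AutB.autb) l65
    (H10.E82Twa.twa brb mu frame nact da db)
    (H72.E82Twb.twb brc mu frame nact da db (H59.E82Solv.solv rf brb brc) stab)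
    (H34.E82End.endS brg frame H5.E82Conj.conj) (H70.E82CaseA.caseA brb brg frame vg)
    (H47.E82B.caseB tau brg frame mu Mu.ss l65 da t63 par ser mult fr pr Enum.enum fit st) E hE H hH

end Cfsg.Agent.H6.E82
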