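import Cfsg.Agent.H8.K4Ar
import Cfsg.Agent.S4606
import Cfsg.Agent.S0960
import Cfsg.Agent.S4542
import Cfsg.Agent.S4652

/-! The last step for principal blocks with `k = 4`, `l = 3`. -/

set_option autoImplicit false

namespace Cfsg.Agent.H6.K4Fin

open Cfsg

theorem fin {G : Type*} [Group G] [Finite G] {p : ℕ} [hp : Fact p.Prime] {M : Ideal AlgInt}
    (hM : IsPModular p M) (hk : Nat.card (principalBlock M G) = 4)
    (hl : blockRank p (principalBlock M G) = 3) (D : Sylow p G)
    (ch : ∃ x y z : ℤ, (Nat.card (D : Subgroup G) : ℤ) = 1 + x ^ 2 + y ^ 2 + z ^ 2 ∧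
      ∀ a b c d : ℤ, (Nat.card (D : Subgroup G) : ℤ) ∣ b - a * x →
        (Nat.card (D : Subgroup G) : ℤ) ∣ c - a * y → (Nat.card (D : Subgroup G) : ℤ) ∣ d - a * z →
        (Nat.card (D : Subgroup G) : ℤ) * a ≤ a ^ 2 + b ^ 2 + c ^ 2 + d ^ 2) :
    p = 2 ∧ Nat.card (D : Subgroup G) = 4 ∧ IsElementaryAbelian 2 (D : Subgroup G) := by
  have := Fintype.ofFinite G
  have hB : IsPBlock M (principalBlock M G) := H17.isPBlock_principalBlock
  have hD := (S4652.result p M hM (D : Subgroup G)).2 ⟨D, rfl⟩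
  have he := S4606.result p M hM _ hB _ hD (by rw [hk, hl]) (Or.inl rfl)
  obtain ⟨x, y, z, hq, H⟩ := ch
  obtain ⟨n, hn⟩ := IsPGroup.iff_card.1 D.isPGroup'
  have low : 4 ≤ Nat.card (D : Subgroup G) := by
    by_contra h
    have := S4542.result p M hM _ hB _ hD ⊥ bot_le
      (fun z hz d _ => by rw [Subgroup.mem_bot.1 hz, one_mul, mul_one]) inferInstance
      (by rw [Subgroup.relIndex_bot_left]; omega)
    omega
  by_cases p2 : p = 2
  · subst p2
    refine ⟨rfl, ?_, he⟩
    have h8 := H8.K4Ar.not_eight _ x y z hq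
    rw [hn] at h8 low ⊢
    have n3 : n < 3 := by
      by_contra h
      exact h8 (by exact_mod_cast (pow_dvd_pow 2 (not_lt.1 h) : 2 ^ 3 ∣ 2 ^ n))
    interval_cases n
    · norm_num at low
    · norm_num at low
    · norm_num
  · exfalso
    have ho : Odd (Nat.card (D : Subgroup G)) := by
      rw [hn]; exact (hp.out.odd_of_ne_two p2).pow
    have h := H8.K4Ar.ar _ x y z hq (by have := Nat.odd_iff.1 ho; omega) H
    have h' : Nat.card (D : Subgroup G) = 7 ∨ Nat.card (D : Subgroup G) = 15 := by omega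
    rcases h' with h7 | h15
    · have n0 : n ≠ 0 := by rintro rfl; rw [hn] at h7; simp at h7
      have p7 : p = 7 := (Nat.prime_dvd_prime_iff_eq hp.out (by norm_num)).1
        (by rw [← h7, hn]; exact dvd_pow_self p n0)
      subst p7
      obtain ⟨e, he'⟩ : ∃ e, _ = e := ⟨_, rfl⟩
      have := (S0960.result 7 M hM p2 D h7 e he').1
      rw [hk] at this
      have e4 : e ≤ 4 := this ▸ Nat.le_add_right _ _
      interval_cases e <;> simp at this
    · rw [hn] at h15
      have h3 : 3 = p := (Nat.prime_dvd_prime_iff_eq Nat.prime_three hp.out).1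
        (Nat.prime_three.dvd_of_dvd_pow (n := n) (by rw [h15]; norm_num))
      have h5 : 5 = p := (Nat.prime_dvd_prime_iff_eq Nat.prime_five hp.out).1
        (Nat.prime_five.dvd_of_dvd_pow (n := n) (by rw [h15]; norm_num))
      omega

end Cfsg.Agent.H6.K4Fin
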