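import Cfsg.Agent.H44.K5Defs

/-! Project K5, piece NEI. -/

set_option autoImplicit false

namespace Cfsg.Agent.H6.K5Nei

open Cfsg.Agent.H44.K5 Matrix

theorem ev (a b c d : ℤ) (h : (a ^ 2 + b ^ 2 + c ^ 2 + d ^ 2) % 8 = 0) :
    a % 2 = 0 ∧ b % 2 = 0 ∧ c % 2 = 0 ∧ d % 2 = 0 := by
  have sq : ∀ t : ℤ, (t % 2 = 0 ∧ (t ^ 2 % 8 = 0 ∨ t ^ 2 % 8 = 4)) ∨ (t % 2 = 1 ∧ t ^ 2 % 8 = 1) := by
    intro t
    have : t % 8 = 0 ∨ t % 8 = 1 ∨ t % 8 = 2 ∨ t % 8 = 3 ∨ t % 8 = 4 ∨ t % 8 = 5 ∨ t % 8 = 6 ∨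
        t % 8 = 7 := by omega
    rcases this with h | h | h | h | h | h | h | h <;> simp [pow_two, Int.mul_emod, h] <;> omega
  have := sq a
  have := sq b
  have := sq c
  have := sq d
  omega

theorem od (t : ℤ) (h : t % 2 = 1) : t ^ 2 % 8 = 1 := by
  have : t % 8 = 1 ∨ t % 8 = 3 ∨ t % 8 = 5 ∨ t % 8 = 7 := by omega
  rcases this with h | h | h | h <;> simp [pow_two, Int.mul_emod, h]

theorem row (uni : UniStmt) (p x y z t c k m : ℤ) (p0 : p ≠ 0) (po : p % 2 = 1)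
    (hN : 1 + x ^ 2 + y ^ 2 + z ^ 2 + t ^ 2 = p ^ 2 * m) (hc : c * x = 1 + p * k) :
    ∃ u0 u1 u2 u3 u4 : ℤ,
      (u0 * p ^ 2 + u1 * (c + p * k * x) - p * (u2 * y + u3 * z + u4 * t)) % 2 = 1 ∧
      (u0 * p ^ 2 + u1 * (c + p * k * x) - p * (u2 * y + u3 * z + u4 * t)) ^ 2 + u1 ^ 2 +
        (u1 * (c * y) + u2 * p) ^ 2 + (u1 * (c * z) + u3 * p) ^ 2 + (u1 * (c * t) + u4 * p) ^ 2 = p ^ 2 := by
  let B : Matrix (Fin 5) (Fin 5) ℤ :=
    !![p ^ 2, 0, 0, 0, 0; c + p * k * x, 1, c * y, c * z, c * t; -(p * y), 0, p, 0, 0;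
      -(p * z), 0, 0, p, 0; -(p * t), 0, 0, 0, p]
  let A : Matrix (Fin 5) (Fin 5) ℤ :=
    !![p ^ 2, c + p * k * x, -(p * y), -(p * z), -(p * t);
      c + p * k * x, c ^ 2 * m + k ^ 2 * (1 + x ^ 2), -(k * x * y), -(k * x * z), -(k * x * t);
      -(p * y), -(k * x * y), 1 + y ^ 2, y * z, y * t;
      -(p * z), -(k * x * z), y * z, 1 + z ^ 2, z * t;
      -(p * t), -(k * x * t), y * t, z * t, 1 + t ^ 2]
  have hBA : B * Bᵀ = (p ^ 2) • A := by
    ext i j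
    fin_cases i <;> fin_cases j <;>
      simp [A, B, Matrix.mul_apply, Fin.sum_univ_succ] <;>
      first | ring1 | linear_combination c ^ 2 * hN - (c * x - p * k + 1) * hc
  have dB : B.det = p ^ 5 := by
    simp [B, Matrix.det_succ_row_zero, Fin.sum_univ_succ, Fin.succAbove]
    ring
  have dA : A.det = 1 := by
    have := congrArg Matrix.det hBA
    rw [det_mul, det_transpose, dB, det_smul, Fintype.card_fin] at this
    have h10 : (p ^ 2) ^ 5 * A.det = (p ^ 2) ^ 5 * 1 := by rw [← this]; ring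
    exact mul_left_cancel₀ (by positivity) h10
  have sA : Aᵀ = A := by
    ext i j
    fin_cases i <;> fin_cases j <;> simp [A]
  obtain ⟨U, hU⟩ := uni 5 le_rfl A sA (by
    intro v hv
    have e : p ^ 2 * (v ⬝ᵥ A *ᵥ v) = (Bᵀ *ᵥ v) ⬝ᵥ (Bᵀ *ᵥ v) := by
      rw [← smul_eq_mul, ← dotProduct_smul, ← smul_mulVec, ← hBA, ← mulVec_mulVec,
        dotProduct_mulVec, mulVec_transpose]
    have n0 : Bᵀ *ᵥ v ≠ 0 := fun h => hv (eq_zero_of_mulVec_eq_zero
      (by rw [det_transpose, dB]; exact pow_ne_zero _ p0) h)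
    have ge : 0 ≤ (Bᵀ *ᵥ v) ⬝ᵥ (Bᵀ *ᵥ v) := Finset.sum_nonneg fun i _ => mul_self_nonneg _
    have gt : 0 < (Bᵀ *ᵥ v) ⬝ᵥ (Bᵀ *ᵥ v) :=
      lt_of_le_of_ne ge fun h => n0 (dotProduct_self_eq_zero.1 h.symm)
    rw [← e] at gt
    exact (mul_pos_iff_of_pos_left (by positivity)).1 gt) dA
  have hW : (Uᵀ * B) * (Uᵀ * B)ᵀ = (p ^ 2) • (1 : Matrix (Fin 5) (Fin 5) ℤ) := by
    rw [transpose_mul, transpose_transpose, Matrix.mul_assoc, ← Matrix.mul_assoc B, hBA, ← hU,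
      Matrix.smul_mul, Matrix.mul_smul, Matrix.mul_assoc]
  obtain ⟨i, hi⟩ : ∃ i, (Uᵀ * B) i 0 % 2 = 1 := by
    by_contra h
    push Not at h
    have h2 : 2 ∣ (Uᵀ * B).det := by
      rw [det_succ_column_zero]
      exact Finset.dvd_sum fun i _ => Dvd.dvd.mul_right (Dvd.dvd.mul_left
        (by have := h i; omega) _) _
    have := congrArg Matrix.det hW
    rw [det_mul, det_transpose, det_smul, det_one, mul_one] at this
    have h3 : (2 : ℤ) ∣ (p ^ 2) ^ Fintype.card (Fin 5) := this ▸ h2.mul_right _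
    have := Int.prime_two.dvd_of_dvd_pow (Int.prime_two.dvd_of_dvd_pow h3)
    omega
  have hii := congrFun (congrFun hW i) i
  rw [Matrix.mul_apply] at hii
  simp only [transpose_apply, Fin.sum_univ_five, Matrix.mul_apply] at hii hi
  simp [B] at hii hi
  refine ⟨U 0 i, U 1 i, U 2 i, U 3 i, U 4 i, ?_, ?_⟩
  · rw [← hi]; congr 1; ring
  · linear_combination hii

theorem nei (uni : UniStmt) : NeiStmt := by
  intro p hp p2 x0 y z t hx ⟨m, hm⟩
  have pp : Prime (p : ℤ) := Nat.prime_iff_prime_int.1 hp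
  have po : (p : ℤ) % 2 = 1 := by have := Nat.odd_iff.1 (hp.odd_of_ne_two p2); omega
  have p1 : (1 : ℤ) < p := by exact_mod_cast hp.one_lt
  generalize (p : ℤ) = q at *
  obtain ⟨u, c, huc⟩ := (pp.irreducible.coprime_iff_not_dvd.2 hx)
  obtain ⟨h, hh⟩ : ∃ h, q + 1 = 2 * h := ⟨(q + 1) / 2, by omega⟩
  obtain ⟨u0, u1, u2, u3, u4, h1, h2⟩ := row uni q (x0 - q * (m * c * h)) y z t c
    (-u - c * (m * c * h)) ((m * c * h) ^ 2 + m * (u * (q + 1) - 1)) pp.ne_zero po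
    (by linear_combination hm + q * m * c * x0 * hh - q * m * (q + 1) * huc)
    (by linear_combination huc)
  have hc : c * (x0 - q * (m * c * h)) = 1 + q * (-u - c * (m * c * h)) := by linear_combination huc
  generalize -u - c * (m * c * h) = k at *
  generalize m * c * h = j at *
  obtain ⟨w, hw⟩ : ∃ w, w = u0 * q ^ 2 + u1 * (c + q * k * (x0 - q * j)) -
    q * (u2 * y + u3 * z + u4 * t) := ⟨_, rfl⟩
  rw [← hw] at h1 h2
  have o1 := od w h1
  have o2 := od q po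
  obtain ⟨e1, e2, e3, e4⟩ := ev u1 (u1 * (c * y) + u2 * q) (u1 * (c * z) + u3 * q)
    (u1 * (c * t) + u4 * q) (by omega)
  obtain ⟨a, ha⟩ : ∃ a, q + w = 2 * a := ⟨(q + w) / 2, by omega⟩
  obtain ⟨b, hb⟩ : ∃ b, u1 = 2 * b := ⟨u1 / 2, by omega⟩
  obtain ⟨c', hc'⟩ : ∃ b, u1 * (c * y) + u2 * q = 2 * b := Int.dvd_of_emod_eq_zero e2
  obtain ⟨d, hd⟩ : ∃ b, u1 * (c * z) + u3 * q = 2 * b := Int.dvd_of_emod_eq_zero e3
  obtain ⟨e, he⟩ : ∃ b, u1 * (c * t) + u4 * q = 2 * b := Int.dvd_of_emod_eq_zero e4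
  have half : ∀ s : ℤ, q ∣ 2 * s → q ∣ s := fun s hs => (pp.dvd_or_dvd hs).resolve_left fun h2 => by
    have := Int.le_of_dvd two_pos h2
    omega
  obtain ⟨r, hr⟩ : ∃ r, w = u1 * c + q * r :=
    ⟨u0 * q + u1 * k * (x0 - q * j) - (u2 * y + u3 * z + u4 * t), by rw [hw]; ring⟩
  refine ⟨a, b, c', d, e, ?_, half _ ⟨u1 * u - (1 + r) * x0, ?_⟩, half _ ⟨u2 - (1 + r) * y, ?_⟩,
    half _ ⟨u3 - (1 + r) * z, ?_⟩, half _ ⟨u4 - (1 + r) * t, ?_⟩, ?_⟩
  · rintro ⟨s, hs⟩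
    have w1 : w = q * (2 * s - 1) := by linear_combination ha + 2 * hs
    have s1 : 1 ≤ (2 * s - 1) ^ 2 := by
      have : 2 * s - 1 ≠ 0 := by omega
      have := pow_pos (abs_pos.2 this) 2
      rw [sq_abs] at this
      omega
    have w2 : q ^ 2 ≤ w ^ 2 := by rw [w1, mul_pow]; nlinarith [sq_nonneg q]
    have n1 := sq_nonneg u1
    have n2 := sq_nonneg (u1 * (c * y) + u2 * q)
    have n3 := sq_nonneg (u1 * (c * z) + u3 * q)
    have n4 := sq_nonneg (u1 * (c * t) + u4 * q)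
    have z1 : u1 = 0 := pow_eq_zero_iff two_ne_zero |>.1 (by linarith)
    have z2 : u1 * (c * y) + u2 * q = 0 := pow_eq_zero_iff two_ne_zero |>.1 (by linarith)
    have z3 : u1 * (c * z) + u3 * q = 0 := pow_eq_zero_iff two_ne_zero |>.1 (by linarith)
    have z4 : u1 * (c * t) + u4 * q = 0 := pow_eq_zero_iff two_ne_zero |>.1 (by linarith)
    have w3 : w ^ 2 = q ^ 2 := by linarith
    have w4 : w = u0 * q ^ 2 := by
      rw [z1] at z2 z3 z4
      rw [hw, z1]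
      linear_combination (-y) * z2 - z * z3 - t * z4
    have w5 : q ^ 2 * (q * (q * u0 ^ 2)) = q ^ 2 * 1 := by rw [w4] at w3; linear_combination w3
    have w6 := mul_left_cancel₀ (pow_ne_zero 2 pp.ne_zero) w5
    exact pp.not_isUnit (IsUnit.of_mul_eq_one _ w6)
  · linear_combination (-1) * hb + x0 * ha - x0 * hr - u1 * huc
  · linear_combination (-1) * hc' + y * ha - y * hr
  · linear_combination (-1) * hd + z * ha - z * hr
  · linear_combination (-1) * he + t * ha - t * hr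
  · rw [hc', hd, he] at h2
    have hw2 : w = 2 * a - q := by linarith
    rw [hw2, hb] at h2
    linarith

end Cfsg.Agent.H6.K5Nei
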