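import Cfsg.Agent.H78.McDefs
import Cfsg.Agent.H5.NE4

/-! Project MC, piece UNI. -/

set_option autoImplicit false

namespace Cfsg.Agent.H6.McUni

open Subgroup Cfsg.Agent.H78.Mc Cfsg.Agent.H5

universe u

theorem uni : UniStmt.{u} := by
  intro P _ _ p n hp hn h3 hcl M hM
  obtain ⟨c, rfl⟩ : ∃ c, n = c + 2 := ⟨n - 2, by omega⟩
  have hG : IsPGroup p P := IsPGroup.of_card hn
  have h : MxC p (⊤ : Subgroup P) c :=
    ⟨by rw [card_top, hn], (H90.nilpotencyClass_eq_iff_lcs_ne_bot hn).1 (by rw [hcl]; omega)⟩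
  have low : ∀ x : P, p ^ 2 ≤ Nat.card (centralizer ({x} : Set P)) := by
    intro x
    have := relIndex_le_card_centralizer (H := (⊤ : Subgroup P)) (D := lc ⊤ 1) le_top (y := x)
      fun g _ => lc_comm (S := ⊤) (i := 0) (j := 0) (mem_top g) (mem_top x)
    rwa [h.relIndex_lc_top le_rfl (by omega), inf_top_eq] at this
  have two : ∀ A : Subgroup P, A ≠ ⊤ → ∃ x, x ∉ M ∧ x ∉ A := by
    intro A hA
    obtain ⟨s, hs⟩ := H90.exists_not_mem_of_card_le hG (Finset.univ : Finset (Fin 2))
      (by simpa using hp.out.two_le) ![M, A] (by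
        intro j _; fin_cases j
        · exact hM
        · exact hA)
    exact ⟨s, hs 0 (Finset.mem_univ _), hs 1 (Finset.mem_univ _)⟩
  by_cases hc : 2 ≤ c
  · suffices e : ∃ x, x ∉ M ∧ MxC.Uni (⊤ : Subgroup P) c x by
      obtain ⟨x, h1, h2⟩ := e
      refine ⟨x, h1, le_antisymm ?_ (low x)⟩
      have := h.card_centralizer_le hc h2 (H := ⊤) le_rfl
      rwa [inf_top_eq] at this
    have n1 := h.not_le_Kc (i := 1) le_rfl hc
    by_cases p3 : 3 ≤ p
    · obtain ⟨s, hs1, hs2, hs3, hs4⟩ := h.exists_not_mem_three p3 n1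
        (h.not_le_Kc (i := c - 1) (by omega) (by omega)) (C := M) (fun e => hM (top_le_iff.1 e))
      refine ⟨s, hs4, hs1, fun i hi hic => ?_⟩
      by_cases e : i + 2 ≤ c
      · rwa [h.Kc_eq p3 hi e]
      · rwa [show i = c - 1 by omega]
    · have p2 : p = 2 := by have := hp.out.two_le; omega
      obtain ⟨s, hs1, hs2⟩ := two (Kc ⊤ 1) fun e => n1 e.ge
      have key : ∀ j, j + 1 ≤ c → Kc (⊤ : Subgroup P) 1 ≤ Kc ⊤ (j + 1) := by
        intro j
        induction j with
        | zero => exact fun _ => le_rfl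
        | succ j ih =>
          intro hj
          have := h.Kc_le_period (j := j + 1) (by omega) (by omega)
          rw [show j + 1 + p - 1 = j + 1 + 1 by omega] at this
          exact (ih (by omega)).trans this
      refine ⟨s, hs1, mem_top s, fun i hi hic => ?_⟩
      obtain ⟨j, rfl⟩ : ∃ j, i = j + 1 := ⟨i - 1, by omega⟩
      rwa [h.eq_Kc_of_le (h.relIndex_Kc le_rfl hc) hi hic (key j (by omega))]
  · obtain rfl : c = 1 := by omega
    obtain ⟨x, h1, h2⟩ := two (center P) fun e => by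
      have := H90.card_center_of_maxClass le_rfl hn h.ne
      rw [e, card_top, hn] at this
      have h1 := Nat.pow_lt_pow_right hp.out.one_lt (show 1 < 1 + 2 by omega)
      rw [pow_one] at h1
      omega
    refine ⟨x, h1, le_antisymm ?_ (low x)⟩
    have hd := card_subgroup_dvd_card (centralizer ({x} : Set P))
    rw [hn] at hd
    obtain ⟨k, hk, e⟩ := (Nat.dvd_prime_pow hp.out).1 hd
    have k3 : k ≠ 1 + 2 := fun e3 => h2 (by
      have : centralizer ({x} : Set P) = ⊤ := eq_top_of_card_eq _ (by rw [e, e3, hn])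
      exact mem_center_iff.2 fun g => mem_centralizer_singleton_iff.1 (this ▸ mem_top g))
    rw [e]
    exact Nat.pow_le_pow_right hp.out.pos (by omega)

end Cfsg.Agent.H6.McUni
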