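import Cfsg.Agent.H14.SpSw
import Cfsg.Agent.H34.SpSB0
import Cfsg.Agent.H90.SpNF

/-!
# The step `CtStmt`: the doubled groups lie in `X` and are normalized by `C(t)`
-/

set_option autoImplicit false

namespace Cfsg.Agent.H6.SpCt

open Cfsg Cfsg.Agent.H63 Cfsg.Agent.H63.SL Cfsg.Agent.H26 Cfsg.Agent.H68.Sp
open Cfsg.Agent.H78 hiding tv
open Cfsg.Agent.H29.SpK
open Subgroup Module
open scoped commutatorElement

universe u v

section Grp

variable {G : Type u} [Group G]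

theorem fix_inv [Finite G] {N : Subgroup G} {t : G} (ht : t * t = 1)
    (hn : ∀ x ∈ N, t * x * t ∈ N) (he : ¬ Odd (Nat.card N)) :
    ∃ u ∈ N, u ≠ 1 ∧ u * u = 1 ∧ u * t = t * u := by
  classical
  have : Fact (Nat.Prime 2) := ⟨Nat.prime_two⟩
  have := Fintype.ofFinite N
  let f : Function.End N := fun x => ⟨t * x * t, hn x x.2⟩
  have hf : f ^ 2 ^ 1 = 1 := by
    funext x
    refine Subtype.ext ?_
    show t * (t * x * t) * t = x
    calc _ = (t * t) * x * (t * t) := by group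
      _ = _ := by rw [ht]; group
  have h1 := Equiv.Perm.card_fixedPoints_modEq hf
  have h2 : Fintype.card (Function.fixedPoints f) =
      Nat.card (N ⊓ centralizer {t} : Subgroup G) := by
    rw [← Nat.card_eq_fintype_card]
    refine Nat.card_congr ⟨fun x => ⟨x.1.1, x.1.2, mem_centralizer_singleton_iff.2 ?_⟩,
      fun x => ⟨⟨x.1, x.2.1⟩, Subtype.ext ?_⟩, fun _ => rfl, fun _ => rfl⟩
    · have h3 : t * x.1.1 * t = x.1.1 := congrArg Subtype.val x.2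
      calc x.1.1 * t = t * x.1.1 * t * t := by rw [h3]
        _ = _ := by rw [mul_assoc, ht, mul_one]
    · show t * x.1 * t = x.1
      rw [← mem_centralizer_singleton_iff.1 x.2.2, mul_assoc, ht, mul_one]
  rw [h2, ← Nat.card_eq_fintype_card] at h1
  have h3 : 2 ∣ Nat.card (N ⊓ centralizer {t} : Subgroup G) :=
    (h1.dvd_iff dvd_rfl).1 (even_iff_two_dvd.1 (Nat.not_odd_iff_even.1 he))
  obtain ⟨u, hu⟩ := exists_prime_orderOf_dvd_card' 2 h3
  rw [← orderOf_coe] at hu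
  refine ⟨u, u.2.1, fun e => ?_, ?_, mem_centralizer_singleton_iff.1 u.2.2⟩
  · rw [e, orderOf_one] at hu; omega
  · rw [← pow_two, ← hu, pow_orderOf_eq_one]

theorem conj_cent {A B : Subgroup G} {g p : G} (h : ∀ x ∈ B, g⁻¹ * x * g⁻¹⁻¹ ∈ A)
    (hp : p ∈ C[A]) : g * p * g⁻¹ ∈ C[B] := by
  intro x hx
  have e := hp _ (h x hx)
  calc x * (g * p * g⁻¹) = g * (g⁻¹ * x * g⁻¹⁻¹ * p) * g⁻¹ := by group
    _ = g * (p * (g⁻¹ * x * g⁻¹⁻¹)) * g⁻¹ := by rw [e]
    _ = _ := by group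

/-- The centralizer of a `C(t)`-invariant overgroup of `L` that `t` does not centralize. -/
theorem odd_cent [Finite G] {L G0 : Subgroup G} {t y : G} (tc : Tc L t) (hL : L ≤ G0)
    (hN : C1[t] ≤ N[G0]) (hy : y ∈ G0) (hty : ¬ Commute t y) : Odd (Nat.card C[G0]) := by
  by_contra he
  have tt : t * t = 1 := by rw [← sq, ← tc.t2, pow_orderOf_eq_one]
  have ti : t⁻¹ = t := inv_eq_of_mul_eq_one_right tt
  have tN : t ∈ N[G0] := hN (H14.SpSw.mem_C1.2 (Commute.refl t))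
  obtain ⟨u, h1, h2, h3, h4⟩ := fix_inv (N := C[G0]) tt (fun x hx => by
    have := conj_cent (fun z hz => H34.SpSB.conj_mem (inv_mem tN) hz) hx
    rwa [ti] at this) he
  rcases tc.one u (centralizer_le (SetLike.coe_subset_coe.2 hL) h1) h4 h3 with e | e
  · exact h2 e
  · exact hty (H14.SpSw.cC (e ▸ h1) hy)

/-- Conjugation maps `A ⊔ ⟨S⟩` into `B`. -/
theorem conj_sup {A B : Subgroup G} {S : Set G} {g : G} (hA : ∀ x ∈ A, g * x * g⁻¹ ∈ B)
    (hS : ∀ x ∈ S, g * x * g⁻¹ ∈ B) : ∀ x ∈ A ⊔ closure S, g * x * g⁻¹ ∈ B := by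
  have : A ⊔ closure S ≤ B.comap (MulAut.conj g).toMonoidHom :=
    sup_le (fun x hx => hA x hx) ((closure_le _).2 fun x hx => hS x hx)
  exact fun x hx => this hx

theorem conj_mv {g p t z : G} (hg : Commute g t) (h : p * t * p⁻¹ = t * z) :
    g * p * g⁻¹ * t * (g * p * g⁻¹)⁻¹ = t * (g * z * g⁻¹) := by
  have e : g⁻¹ * t * g = t := by rw [mul_assoc, ← hg.eq, inv_mul_cancel_left]
  calc g * p * g⁻¹ * t * (g * p * g⁻¹)⁻¹ = g * (p * (g⁻¹ * t * g) * p⁻¹) * g⁻¹ := by group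
    _ = g * t * z * g⁻¹ := by rw [e, h]; group
    _ = _ := by rw [hg.eq]; group

theorem mem_of_conj {X : Subgroup G} (hX : X.Normal) {l a b : G} (hl : l ∈ X)
    (h : l * a * l⁻¹ = a * b) : b ∈ X := by
  have e : b = a⁻¹ * l * a⁻¹⁻¹ * l⁻¹ := by
    rw [inv_inv, mul_assoc, mul_assoc, ← mul_assoc l, h, inv_mul_cancel_left]
  rw [e]
  exact mul_mem (hX.conj_mem l hl _) (inv_mem hl)

end Grp

variable {F V : Type v} [Field F] [AddCommGroup V] [Module F V] {G : Type u} [Group G]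
  {P : PForm F V} {φ : P.E →* G} {L : Subgroup G} {k : ℕ} {t g : G} {T : V ≃+ V} {ψ : F ≃+* F}

theorem ind_inv (h : SG P φ L k) (hg : g ∈ N[L]) (hI : Ind P φ g T ψ) :
    Ind P φ g⁻¹ T.symm ψ.symm where
  smul c x := T.injective (by
    rw [hI.smul, T.apply_symm_apply, T.apply_symm_apply, ψ.apply_symm_apply])
  form x y := ψ.injective (by
    rw [← hI.form, T.apply_symm_apply, T.apply_symm_apply, ψ.apply_symm_apply])
  hq x := by rw [h.lam]; trivial
  lam a := by rw [h.lam]; simp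
  cs a := by rw [h.sig, h.sig]
  conj e := by
    obtain ⟨e', he'⟩ := exists_φ h (H34.SpSB.conj_mem (inv_mem hg) (φ_mem h e))
    obtain ⟨e1, h1, h2⟩ := hI.conj e'
    have h3 : e1 = e := h.inj (by rw [← h2, he']; group)
    subst h3
    refine ⟨e', fun v => T.injective ?_, he'.symm⟩
    rw [← h1, T.apply_symm_apply, T.apply_symm_apply]

theorem span_map (hT : Semi P T ψ) {S S' : Set V} (hS : ∀ x ∈ S, T x ∈ S') {w : V}
    (hw : w ∈ Submodule.span F S) : T w ∈ Submodule.span F S' := by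
  induction hw using Submodule.span_induction with
  | mem x hx => exact Submodule.subset_span (hS x hx)
  | zero => rw [map_zero]; exact zero_mem _
  | add x y _ _ hx hy => rw [map_add]; exact add_mem hx hy
  | smul c x _ hx => rw [hT.smul]; exact Submodule.smul_mem _ _ hx

theorem conj_YW (hI : Ind P φ g T ψ) {S S' : Set V} (hS : ∀ x ∈ S', ∃ y ∈ S, T y = x) :
    ∀ x ∈ YW P φ S, g * x * g⁻¹ ∈ YW P φ S' := by
  intro x hx
  obtain ⟨e, he, rfl⟩ := mem_YW.1 hx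
  obtain ⟨e', h1, h2⟩ := hI.conj e
  refine mem_YW.2 ⟨e', fun v hv => ?_, h2.symm⟩
  obtain ⟨y, hy, rfl⟩ := hS v hv
  rw [h1, he y hy]

theorem conj_S2 (h : SG P φ L k) (hI : Ind P φ g T ψ) {S S' : Set V} (hS : ∀ x ∈ S, T x ∈ S') :
    ∀ x ∈ S2 P φ S, g * x * g⁻¹ ∈ S2 P φ S' := by
  have : S2 P φ S ≤ (S2 P φ S').comap (MulAut.conj g).toMonoidHom := by
    refine (closure_le _).2 ?_
    rintro x ⟨v, hv, c, rfl⟩
    change g * tv P φ v c * g⁻¹ ∈ S2 P φ S'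
    rw [ind_tv h hI]
    exact tv_mem_S2 (span_map hI.toSemi hS hv) _
  exact fun x hx => this hx

theorem conj_QW (h : SG P φ L k) (hI : Ind P φ g T ψ) {S S' : Set V} (hS : ∀ x ∈ S, T x ∈ S')
    (hS' : ∀ x ∈ S', ∃ y ∈ S, T y = x) : ∀ x ∈ QW P φ S, g * x * g⁻¹ ∈ QW P φ S' := by
  have : QW P φ S ≤ (QW P φ S').comap (MulAut.conj g).toMonoidHom := by
    refine (closure_le _).2 ?_
    rintro x ⟨v, hv, y, hy, c, rfl⟩
    change g * ET P φ v y c * g⁻¹ ∈ QW P φ S'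
    rw [ind_ET h hI]
    refine ET_mem_QW (span_map hI.toSemi hS hv) (fun s hs => ?_) _
    obtain ⟨z, hz, rfl⟩ := hS' s hs
    rw [hI.form, PForm.mem_perp_span.1 hy z hz, map_zero]
  exact fun x hx => this hx

theorem S2_le (h : SG P φ L k) (S : Set V) : S2 P φ S ≤ L := by
  refine (closure_le _).2 ?_
  rintro x ⟨v, -, c, rfl⟩
  exact ET_mem h _ _ _

theorem QW_le (h : SG P φ L k) (S : Set V) : QW P φ S ≤ L := by
  refine (closure_le _).2 ?_
  rintro x ⟨v, -, y, -, c, rfl⟩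
  exact ET_mem h _ _ _

theorem conj_BS (h : SG P φ L k) (hg : g ∈ N[L]) (hgt : Commute g t) (hI : Ind P φ g T ψ)
    {u v : V} {p : G} (hp : p ∈ BS P φ t u v) : g * p * g⁻¹ ∈ BS P φ t (T u) (T v) := by
  obtain ⟨b, hb⟩ := hp
  refine ⟨ψ b, conj_cent (conj_YW (ind_inv h hg hI) ?_) hb.cent, ?_, ?_, fun e => ?_⟩
  · rintro x (rfl | rfl)
    · exact ⟨T x, by simp, T.symm_apply_apply x⟩
    · exact ⟨T x, by simp, T.symm_apply_apply x⟩
  · rw [conj_mv hgt hb.mv, ind_Es h hI, hI.smul]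
  · calc g * p * g⁻¹ * (g * p * g⁻¹) = g * (p * p) * g⁻¹ := by group
      _ = _ := by rw [hb.sq, ind_Es h hI, hI.smul, map_mul, map_zero]
  · refine conj_S2 h hI ?_ _ (hb.zero (by simpa using e))
    rintro x (rfl | rfl) <;> simp

theorem conj_BL (h : SG P φ L k) (hg : g ∈ N[L]) (hgt : Commute g t) (hI : Ind P φ g T ψ)
    {v : V} {p : G} (hp : p ∈ BL P φ t v) : g * p * g⁻¹ ∈ BL P φ t (T v) := by
  obtain ⟨h1, ⟨n, h2⟩, ⟨a, h3⟩, h4⟩ := hp
  have hJ := ind_inv h hg hI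
  refine ⟨conj_cent (conj_YW hJ ?_) h1, ⟨n, ?_⟩, ⟨ψ a, ?_⟩, fun w hw x hx => ?_⟩
  · rintro x rfl
    exact ⟨T x, rfl, T.symm_apply_apply x⟩
  · rw [conj_pow, h2, mul_one, mul_inv_cancel]
  · rw [conj_mv hgt h3, ind_tv h hI]
  · have a1 := H14.SpSw.i2_semi hJ.toSemi hw
    have a2 := conj_BS h (inv_mem hg) hgt.inv_left hJ hx
    rw [T.symm_apply_apply] at a1 a2
    have e := (h4 _ a1 _ a2).eq
    show g * p * g⁻¹ * x = x * (g * p * g⁻¹)
    calc g * p * g⁻¹ * x = g * (p * (g⁻¹ * x * g⁻¹⁻¹)) * g⁻¹ := by group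
      _ = g * (g⁻¹ * x * g⁻¹⁻¹ * p) * g⁻¹ := by rw [e]
      _ = _ := by group

theorem conj_BO (h : SG P φ L k) (hg : g ∈ N[L]) (hgt : Commute g t) (hI : Ind P φ g T ψ)
    {v : V} {p : G} (hp : p ∈ BO P φ t v) : g * p * g⁻¹ ∈ BO P φ t (T v) := by
  obtain ⟨h1, h2, a, h3, h4⟩ := hp
  have hJ := ind_inv h hg hI
  refine ⟨conj_cent (conj_QW h hJ ?_ ?_) h1, ?_, ψ a, ?_, fun e => ?_⟩
  · rintro x rfl
    exact T.symm_apply_apply v
  · rintro x rfl
    exact ⟨T x, rfl, T.symm_apply_apply x⟩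
  · calc g * p * g⁻¹ * (g * p * g⁻¹) = g * (p * p) * g⁻¹ := by group
      _ = 1 := by rw [h2, mul_one, mul_inv_cancel]
  · rw [conj_mv hgt h3, ind_tv h hI]
  · refine conj_QW h hI ?_ ?_ _ (h4 (by simpa using e))
    · rintro x rfl
      rfl
    · rintro x rfl
      exact ⟨v, rfl, rfl⟩

theorem witt1 (h : SG P φ L k) (g1 : G1 P k) {u u' : V} (hu : u ≠ 0) (hu' : u' ≠ 0) :
    ∃ e : P.E, e.1 u = u' := by
  obtain ⟨e, he⟩ := g1.witt ![u] ![u'] (by simpa using hu) (by simpa using hu') (fun i j => by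
    fin_cases i; fin_cases j; simp [fs h])
  exact ⟨e, he 0⟩

theorem exists_I3 (h : SG P φ L k) (g1 : G1 P k) (hk : 3 ≤ k) {u v : V} (huv : I2 P u v) :
    ∃ w, I3 P u w v := by
  obtain ⟨Fr, -, hF⟩ := g1.fr ![u, v] ![(⟨0, by omega⟩, false), (⟨1, by omega⟩, false)]
    (fun i j => by fin_cases i <;> fin_cases j <;> simp) huv.2 fun i j => by
      fin_cases i <;> fin_cases j <;> simp [ng, fs h, huv.1, PForm.f_symm_zero huv.1]
  have h0 : Fr.e (⟨0, by omega⟩, false) = u := hF 0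
  have h1 : Fr.e (⟨1, by omega⟩, false) = v := hF 1
  subst h0 h1
  refine ⟨Fr.e (⟨2, by omega⟩, false), Fr.orth _ _ (by simp [ng]), huv.1,
    Fr.orth _ _ (by simp [ng]), ?_⟩
  have := (g1.li Fr).comp
    ![(⟨0, by omega⟩, false), (⟨2, by omega⟩, false), (⟨1, by omega⟩, false)]
    (fun i j => by fin_cases i <;> fin_cases j <;> simp)
  convert this using 1
  funext i
  fin_cases i <;> rfl

theorem I3.i2 {u w v : V} (H : I3 P u w v) : I2 P u w ∧ I2 P u (w + v) := by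
  obtain ⟨h1, h2, -, h4⟩ := H
  have li : ∀ a b c : F, a • u + b • w + c • v = 0 → a = 0 ∧ b = 0 := fun a b c e => by
    have := Fintype.linearIndependent_iff.1 h4 ![a, b, c] (by
      rw [Fin.sum_univ_three]; exact e)
    exact ⟨this 0, this 1⟩
  refine ⟨⟨h1, LinearIndependent.pair_iff.2 fun a b e => li a b 0 (by rw [e, zero_smul, add_zero])⟩,
    by rw [P.f_add_right, h1, h2, add_zero],
    LinearIndependent.pair_iff.2 fun a b e => li a b b (by rw [← e, smul_add, add_assoc])⟩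

theorem exists_frame (h : SM P φ L k) (g1 : G1 P k) : ∃ u v, I2 P u v := by
  have hk := h.k3
  obtain ⟨Fr, -, -⟩ := g1.fr (m := 0) ![] ![] (fun i => i.elim0) linearIndependent_empty_type
    fun i => i.elim0
  refine ⟨Fr.e (⟨0, by omega⟩, false), Fr.e (⟨1, by omega⟩, false), Fr.orth _ _ (by simp [ng]), ?_⟩
  have := (g1.li Fr).comp ![(⟨0, by omega⟩, false), (⟨1, by omega⟩, false)]
    (fun i j => by fin_cases i <;> fin_cases j <;> simp)
  convert this using 1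
  funext i
  fin_cases i <;> rfl

theorem exists_I2 (h : SM P φ L k) (g1 : G1 P k) {w : V} (hw : w ≠ 0) : ∃ u, I2 P u w := by
  obtain ⟨u, v, huv⟩ := exists_frame h g1
  obtain ⟨e, he⟩ := witt1 h.toSG g1 (huv.2.ne_zero 1) hw
  have := H14.SpSw.i2_semi (H90.SpNF.ind_phi (φ := φ) e).toSemi huv
  exact ⟨e.1 u, he ▸ this⟩

section Main

variable [Finite G] (c : Ctx P φ L k t) {X : Subgroup G} (hX : Red X L t)
include c

theorem cN_of {G0 : Subgroup G}
    (H : ∀ g ∈ N[L], Commute g t → ∀ T ψ, Ind P φ g T ψ → ∀ x ∈ G0, g * x * g⁻¹ ∈ G0) :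
    C1[t] ≤ N[G0] := fun g hg => by
  have h1 := c.tc.cN hg
  obtain ⟨T, ψ, hI⟩ := c.aut g h1
  exact H34.SpSB.mem_N_of (H g h1 (H14.SpSw.mem_C1.1 hg) T ψ hI)

omit [Finite G] in
theorem conj_GA (hg : g ∈ N[L]) (hgt : Commute g t) (hI : Ind P φ g T ψ) :
    ∀ x ∈ GA P φ L t, g * x * g⁻¹ ∈ GA P φ L t :=
  conj_sup (fun _ hx => mem_sup_left (H34.SpSB.conj_mem hg hx)) fun _ ⟨_, _, h1, h2⟩ =>
    mem_sup_right (subset_closure ⟨_, _, H14.SpSw.i2_semi hI.toSemi h1,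
      conj_BS c.toSG hg hgt hI h2⟩)

include hX

omit [Finite G] in
theorem y_mem {l0 : F} {y : V → V → G} (hy : Y1 P φ L t l0 y) {u v : V} (huv : I2 P u v) :
    y u v ∈ X := by
  obtain ⟨w, hw⟩ := exists_I3 c.toSG c.g1 c.k3 huv
  obtain ⟨e, e1, e2⟩ := H14.SpSw.witt2 c.toSG c.g1 (I3.i2 hw).1 (I3.i2 hw).2
  have := hy.conj u w (I3.i2 hw).1 e
  rw [e1, e2, hy.add u w v hw] at this
  exact mem_of_conj hX.nrm (hX.le (φ_mem c.toSG e)) this

omit [Finite G] in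
theorem GA_le {l0 : F} {y : V → V → G} (hy : Y1 P φ L t l0 y) : GA P φ L t ≤ X := by
  refine sup_le hX.le ((closure_le _).2 ?_)
  rintro p ⟨u, v, huv, hp⟩
  obtain ⟨b, s, hs, rfl⟩ := (hy.canon u v huv p).1 hp
  refine mul_mem ?_ (hX.le (S2_le c.toSG _ hs))
  by_cases hb : b = 0
  · rw [hb, zero_smul, hy.zero]; exact one_mem _
  · exact y_mem c hX hy (H14.SpSw.i2_smul' c.toSG huv hb)

omit [Finite G] hX in
theorem y_wit {l0 : F} {y : V → V → G} (hy : Y1 P φ L t l0 y) :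
    ∃ x ∈ GA P φ L t, ¬ Commute t x := by
  obtain ⟨u, v, huv⟩ := exists_frame c.toSM c.g1
  refine ⟨y u v, mem_sup_right (subset_closure ⟨u, v, huv, (hy.canon u v huv _).2
    ⟨1, 1, one_mem _, by rw [one_smul, mul_one]⟩⟩), fun e => ?_⟩
  have h1 := hy.tact u v huv
  rw [e.eq, mul_inv_cancel_right, left_eq_mul, ← one_smul F v, Es_eq_one c.toSG huv] at h1
  exact one_ne_zero h1

theorem gcA {l0 : F} {y : V → V → G} (hy : Y1 P φ L t l0 y) : GC X (GA P φ L t) t := by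
  have hN : C1[t] ≤ N[GA P φ L t] := cN_of c fun g hg hgt T ψ hI => conj_GA c hg hgt hI
  obtain ⟨x, hx, hx'⟩ := y_wit c hy
  exact ⟨hX.nrm, hX.simple, hX.gen, GA_le c hX hy, hX.t2, hN,
    odd_cent c.tc le_sup_left hN hx hx'⟩

theorem gcL {l0 : F} {y : V → V → G} (hy : Y1 P φ L t l0 y) {p : V → G}
    (hp : PC P φ L t y p) : GC X (GL' P φ L t) t := by
  have hN : C1[t] ≤ N[GL' P φ L t] := cN_of c fun g hg hgt T ψ hI =>
    conj_sup (fun x hx => mem_sup_left (conj_GA c hg hgt hI x hx)) fun _ ⟨v, h1, h2⟩ =>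
      mem_sup_right (subset_closure ⟨T v, by simpa using h1, conj_BL c.toSG hg hgt hI h2⟩)
  obtain ⟨x, hx, hx'⟩ := y_wit c hy
  have pm : ∀ w, p w ∈ X := fun w => by
    by_cases hw : w = 0
    · rw [hw, hp.zero]; exact one_mem _
    obtain ⟨u, hu⟩ := exists_I2 c.toSM c.g1 hw
    have h1 : u + w ≠ 0 := fun e =>
      one_ne_zero (LinearIndependent.pair_iff.1 hu.2 1 1 (by rw [one_smul, one_smul, e])).1
    obtain ⟨e, he⟩ := witt1 c.toSG c.g1 (hu.2.ne_zero 0) h1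
    have h2 := hp.conj u e
    rw [show e.1 u = u + w from he, hp.add u w hu, mul_assoc (p u)] at h2
    exact (mul_mem_cancel_right (y_mem c hX hy hu)).1
      (mem_of_conj hX.nrm (hX.le (φ_mem c.toSG e)) h2)
  refine ⟨hX.nrm, hX.simple, hX.gen, sup_le (GA_le c hX hy) ((closure_le _).2 ?_), hX.t2, hN,
    odd_cent c.tc (le_sup_left.trans le_sup_left) hN (mem_sup_left hx) hx'⟩
  rintro x ⟨v, hv, hx⟩
  obtain ⟨s, a, rfl⟩ := (hp.canon v hv x).1 hx
  exact mul_mem (pm _) (hX.le (ET_mem c.toSG _ _ _))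

theorem gcO (Fr : Frame P k) {c0 : F} {p : BI k → F → G} (hp : PB P φ Fr L t c0 p) :
    GC X (GO P φ L t) t := by
  have hk := c.k3
  have hN : C1[t] ≤ N[GO P φ L t] := cN_of c fun g hg hgt T ψ hI =>
    conj_sup (fun x hx => mem_sup_left (H34.SpSB.conj_mem hg hx)) fun _ ⟨v, h1, h2⟩ =>
      mem_sup_right (subset_closure ⟨T v, by simpa using h1, conj_BO c.toSG hg hgt hI h2⟩)
  let a : BI k := (⟨1, by omega⟩, false)
  let b : BI k := (⟨0, by omega⟩, false)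
  have pm : ∀ s, p b s ∈ X := fun s => by
    have h1 := hp.act a b (by simp [a, b]) s 1
    rw [mul_one s, mul_assoc (p (ng a) 1)] at h1
    exact (mul_mem_cancel_right (hX.le (ET_mem c.toSG _ _ _))).1
      (mem_of_conj hX.nrm (hX.le (ET_mem c.toSG _ _ _)) h1)
  refine ⟨hX.nrm, hX.simple, hX.gen, sup_le hX.le ((closure_le _).2 ?_), hX.t2, hN,
    odd_cent (y := p b 1) c.tc le_sup_left hN (mem_sup_right (subset_closure
      ⟨Fr.e b, Fr.e_ne_zero b, (hp.canon b _).2 ⟨1, 1, one_mem _, (mul_one _).symm⟩⟩)) fun e => ?_⟩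
  · rintro x ⟨v, hv, hx⟩
    obtain ⟨e, he⟩ := witt1 c.toSG c.g1 hv (Fr.e_ne_zero b)
    have hl := φ_mem c.toSG e
    have h1 := conj_BO c.toSG (le_normalizer hl) (H14.SpSw.cC c.tc.tc hl).symm
      (H90.SpNF.ind_phi e) hx
    rw [show e.1.toAddEquiv v = Fr.e b from he] at h1
    obtain ⟨s, q, hq, h2⟩ := (hp.canon b _).1 h1
    have h3 : φ e * x * (φ e)⁻¹ ∈ X := h2 ▸ mul_mem (pm s) (hX.le (QW_le c.toSG _ hq))
    exact (mul_mem_cancel_left (hX.le hl)).1 ((mul_mem_cancel_right (inv_mem (hX.le hl))).1 h3)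
  · have h1 := (hp.mb b 1).mv
    rw [← e.eq, mul_inv_cancel_right, left_eq_mul, tv_eq_one c.toSG (Fr.e_ne_zero b), mul_one] at h1
    exact one_ne_zero h1

end Main

/-- **CT** -/
theorem ct : CtStmt.{u, v} := by
  intro F V _ _ _ _ _ G _ _ P φ L k t c X hX
  exact ⟨fun l0 y hy => ⟨gcA c hX hy, fun p hp => gcL c hX hy hp⟩,
    fun Fr _ c0 p hp => gcO c hX Fr hp⟩

end Cfsg.Agent.H6.SpCt
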